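import Groth.Agent.Lib.Lead.RR.StalkPush
import Groth.Agent.Lib.Lead.XS.DualTrace
import Groth.Agent.Lib.Lead.QC.LocFree
import Groth.Agent.Lib.Helper5.Lim.ModuleLocFreeRank

/-!
# The dualizing module of a regular projective scheme is invertible

For `ι : X ⟶ P^n_k` a closed subscheme of pure dimension `r` all of whose local rings are regular,
and `ω` with `ι_* ω ≅ 𝓔xt^{n-r}(ι_* O_X, ω_P)`: all stalks of `ω` are free of rank one, hence `ω`
is invertible. Consequently an integral regular projective scheme has a dualizing pair `(ω, t)`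
with `ω` invertible.
-/

set_option autoImplicit false
set_option linter.style.haveILetI false
noncomputable section
universe u
open CategoryTheory Limits AlgebraicGeometry TopologicalSpace Opposite Abelian

attribute [-instance] Groth.Agent.LD.QC.stalkModule
attribute [local instance] Groth.Agent.LD.MS.hasSheafHom

namespace Groth.Agent.LD.RRS.OI

open Twist Groth.Agent.LD.QC Groth.Agent.LD Groth.Agent.LD.PN Groth.Agent.LD.TW
  Groth.Agent.LD.PD.HA Groth.Agent.LD.XS Groth.Agent.H1.CohLen Groth.Agent.H1.StalkGen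

lemma exists_nat_of_add_eq (d : WithBot ℕ∞) (t n : ℕ)
    (h : d + (t : WithBot ℕ∞) = (n : WithBot ℕ∞)) :
    ∃ e : ℕ, d = (e : WithBot ℕ∞) ∧ e + t = n := by
  induction d using WithBot.recBotCoe with
  | bot => simp at h
  | coe e =>
    have h1 : (e + (t : ℕ∞) : ℕ∞) = (n : ℕ∞) := by exact_mod_cast h
    have he : e ≠ ⊤ := by
      intro h'
      rw [h'] at h1
      simp at h1
    lift e to ℕ using he
    have h2 : e + t = n := by exact_mod_cast h1
    exact ⟨e, by norm_cast, h2⟩

section Sch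
variable {P X : Scheme.{u}}

/-- the stalk of the dualizing module at a regular point is free of rank one. -/
theorem nonempty_stalk_linearEquiv [IsLocallyNoetherian P] (hP : HasRes P)
    [HasInjectiveResolutions (ModSite.Mod P.sheaf)]
    (ι : X ⟶ P) [IsClosedImmersion ι] (ωP : P.Modules) (hωP : FlatMod.IsFinLocFreeOfRank 1 ωP)
    (c : ℕ) (ω : X.Modules) [ω.IsQuasicoherent]
    (e : (Scheme.Modules.pushforward ι).obj ω ≅
      (ModSite.extSh (O := P.sheaf) ((Scheme.Modules.pushforward ι).obj (unitMod X)) c).obj ωP)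
    (hcoh : Coh.IsCoh ((Scheme.Modules.pushforward ι).obj (unitMod X)))
    (x : X) [IsRegularLocalRing (X.presheaf.stalk x)]
    [IsRegularLocalRing (P.presheaf.stalk (ι x))]
    (d : ℕ) (hdX : ringKrullDim (X.presheaf.stalk x) = (d : WithBot ℕ∞))
    (hdP : ringKrullDim (P.presheaf.stalk (ι x)) = ((d + c : ℕ) : WithBot ℕ∞)) :
    Nonempty (ω.presheaf.stalk x ≃ₗ[X.presheaf.stalk x] X.presheaf.stalk x) := by
  obtain ⟨hfree, hfin, hrk⟩ := Groth.Agent.H4.LFP1.stalk_of_isFinLocFreeOfRank 1 ωP hωP (ι x)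
  haveI : Module.Free (P.presheaf.stalk (ι x)) (ωP.presheaf.stalk (ι x)) := hfree
  haveI : Module.Finite (P.presheaf.stalk (ι x)) (ωP.presheaf.stalk (ι x)) := hfin
  have hrk' : Module.finrank (P.presheaf.stalk (ι x)) (ωP.presheaf.stalk (ι x)) = 1 := hrk
  obtain ⟨eW⟩ : Nonempty (ωP.presheaf.stalk (ι x) ≃ₗ[P.presheaf.stalk (ι x)]
      P.presheaf.stalk (ι x)) :=
    ⟨LinearEquiv.ofFinrankEq _ _ (by rw [hrk', Module.finrank_self])⟩
  obtain ⟨Θ⟩ := StalkExt.nonempty_stalk_extSh_equiv hP (ι x) c _ hcoh ωP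
  obtain ⟨σ, hσ⟩ := SP.exists_stalk_push_equiv ι ω x
  haveI : (unitMod X).IsQuasicoherent := (PF.isCoh_unitMod X).1
  obtain ⟨σ₀, hσ₀⟩ := SP.exists_stalk_push_equiv ι (unitMod X) x
  obtain ⟨u⟩ := SP.nonempty_unit_stalk_equiv x
  refine SP.nonempty_linearEquiv_self (ι.stalkMap x).hom (ι.stalkMap_surjective x) c d hdX hdP
    _ _ _ _ (σ₀.trans u.toAddEquiv) (fun a m => ?_) eW
    ((StalkExt.stalkEquivOfIso e (ι x)) ≪≫ₗ Θ) σ hσ
  show u (σ₀ (a • m)) = _
  rw [hσ₀, map_smul, smul_eq_mul]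
  rfl

end Sch

section PNSec
variable (n : ℕ) (k : Type u) [Field k] {X : Scheme.{u}}
  (ι : X ⟶ Proj (CohB1.polyGrading n k)) [IsClosedImmersion ι]
variable [HasInjectiveResolutions (ModSite.Mod (Proj (CohB1.polyGrading n k)).sheaf)]

/-- **the dualizing module of a regular equidimensional projective scheme is invertible.** -/
theorem isInvertible_of_regular (r : ℕ) (hr : r ≤ n)
    (heq : ∀ Z : Set X, Z ∈ irreducibleComponents X →
      topologicalKrullDim Z = (r : WithBot ℕ∞))
    (hreg : ∀ x : X, IsRegularLocalRing (X.presheaf.stalk x))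
    (ω : X.Modules)
    (hω : Nonempty ((Scheme.Modules.pushforward ι).obj ω ≅
      (ModSite.extSh (O := (Proj (CohB1.polyGrading n k)).sheaf)
        ((Scheme.Modules.pushforward ι).obj (unitMod X)) (n - r)).obj (om n k))) :
    PicF.IsInvertible ω := by
  haveI : IsLocallyNoetherian X := LocallyOfFiniteType.isLocallyNoetherian ι
  obtain ⟨e⟩ := hω
  have hP : Coh.IsCoh ((Scheme.Modules.pushforward ι).obj ω) :=
    QC.isCoh_of_iso e.symm (isCoh_extSh (hasRes_PN n k) (n - r) _ (isCoh_push_unit n k ι)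
      (om n k) (isCoh_twist' n k _))
  have hωc : Coh.IsCoh ω := GZ.isCoh_of_isCoh_push ι ω hP
  haveI : ω.IsQuasicoherent := hωc.1
  let q : Proj (CohB1.polyGrading n k) ⟶ Spec (CommRingCat.of k) := CohB1.ProjSpace.toSpec n k
  haveI : Smooth q := Groth.Agent.H4.ProjSmooth.smooth_toSpec n k
  haveI : IsIntegral (Proj (CohB1.polyGrading n k)) :=
    Groth.Agent.H5.Curve6.isIntegral_projSpace k n
  have hPn : ∀ W ∈ irreducibleComponents (Proj (CohB1.polyGrading n k) : Type u),
      topologicalKrullDim W = n := by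
    intro W hW
    rw [irreducibleComponents_eq_singleton, Set.mem_singleton_iff] at hW
    subst hW
    have hd : topologicalKrullDim (Proj (CohB1.polyGrading n k)) = n :=
      Groth.Agent.H5.IntN.dim_projSpace k n
    rw [← hd]
    exact (Homeomorph.Set.univ _).isHomeomorph.topologicalKrullDim_eq _
  have hom : FlatMod.IsFinLocFreeOfRank 1 (om n k) :=
    (QC.isInvertible_iff _).mp (Groth.Agent.H5.Curve6.isInvertible_twistProjSpace k n _)
  have hst : ∀ x : X,
      Nonempty (ω.presheaf.stalk x ≃ₗ[X.presheaf.stalk x] X.presheaf.stalk x) := by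
    intro x
    haveI := hreg x
    haveI : IsRegularLocalRing ((Proj (CohB1.polyGrading n k)).presheaf.stalk (ι x)) :=
      Groth.Agent.H1.SmoothDepth.isRegularLocalRing_stalk_of_smooth k q (ι x)
    obtain ⟨t, ht, hadd⟩ := CodimExt.exists_dim_closure_add q n hPn (ι x)
    obtain ⟨t', ht', hadd'⟩ := CodimExt.exists_dim_closure_add (ι ≫ q) r heq x
    have h1 : topologicalKrullDim ↥(closure ({x} : Set X)) =
        topologicalKrullDim ↥(closure ({ι x} : Set (Proj (CohB1.polyGrading n k)))) :=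
      Groth.Agent.H3.DomClosed.dim_closure_eq_of_closed_in_fibre q ι x
        (fun x' _ h => ι.isClosedEmbedding.injective h)
    have htt : t' = t := by
      have h2 : (t' : WithBot ℕ∞) = (t : WithBot ℕ∞) := by rw [← ht', ← ht, h1]
      have h3 : ((t' : ℕ∞) : WithBot ℕ∞) = ((t : ℕ∞) : WithBot ℕ∞) := by exact_mod_cast h2
      have h4 : (t' : ℕ∞) = (t : ℕ∞) := WithBot.coe_injective h3
      exact_mod_cast h4
    subst htt
    obtain ⟨d, hd, hdt⟩ := exists_nat_of_add_eq _ t' r hadd'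
    obtain ⟨d', hd', hdt'⟩ := exists_nat_of_add_eq _ t' n hadd
    have hd'' : d' = d + (n - r) := by omega
    rw [hd''] at hd'
    exact nonempty_stalk_linearEquiv (hasRes_PN n k) ι (om n k) hom (n - r) ω e
      (isCoh_push_unit n k ι) x d hd hd'
  have hfree : ∀ x : X, Module.Free (X.presheaf.stalk x) (ω.presheaf.stalk x) := fun x => by
    obtain ⟨u⟩ := hst x
    exact Module.Free.of_equiv u.symm
  have hrk : ∀ x : X, Module.finrank (X.presheaf.stalk x) (ω.presheaf.stalk x) = 1 := fun x => by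
    obtain ⟨u⟩ := hst x
    rw [u.finrank_eq, Module.finrank_self]
  have hfp := QC.isFinitePresentation_of_qc_ft ω hωc.1 hωc.2
  have hlf : FlatMod.IsFinLocFree ω := QC.isFinLocFree_of_free_stalks ω hfp hfree
  exact (QC.isInvertible_iff ω).mpr
    ((Groth.Agent.H5.Lim.isFinLocFreeOfRank_iff_finrank_stalk 1 ω).mpr ⟨hlf, hrk⟩)

end PNSec

section Final
variable (n : ℕ) (k : Type u) [Field k] {X : Scheme.{u}} [X.Over (Spec (CommRingCat.of k))]
  (ι : X ⟶ Proj (CohB1.polyGrading n k)) [IsClosedImmersion ι]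

/-- **an integral regular projective scheme has a dualizing pair with invertible module.** -/
theorem exists_canonical
    (hι : ι ≫ CohB1.ProjSpace.toSpec n k = X ↘ Spec (CommRingCat.of k)) [IsIntegral X] (r : ℕ)
    (hr : topologicalKrullDim X = (r : WithBot ℕ∞))
    (hreg : ∀ x : X, IsRegularLocalRing (X.presheaf.stalk x)) :
    ∃ (ω : X.Modules) (t : Coh.HH X ω r →ₗ[k] k), PicF.IsInvertible ω ∧ Coh.IsCoh ω ∧
      ∀ F : X.Modules, Coh.IsCoh F → CL.IsDualFor k r ω t F := by
  haveI hinjres : HasInjectiveResolutions (ModSite.Mod (Proj (CohB1.polyGrading n k)).sheaf) :=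
    Groth.Agent.LD.QCQS.hasInjRes (Proj (CohB1.polyGrading n k))
  have hPdim : topologicalKrullDim (Proj (CohB1.polyGrading n k)) = n :=
    Groth.Agent.H5.IntN.dim_projSpace k n
  have hrn : r ≤ n := by
    have hle : topologicalKrullDim X ≤ topologicalKrullDim (Proj (CohB1.polyGrading n k)) :=
      ι.isClosedEmbedding.toIsEmbedding.toIsInducing.topologicalKrullDim_le
    rw [hr, hPdim] at hle
    have h1 : ((r : ℕ∞) : WithBot ℕ∞) ≤ ((n : ℕ∞) : WithBot ℕ∞) := by exact_mod_cast hle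
    have h2 : (r : ℕ∞) ≤ (n : ℕ∞) := WithBot.coe_le_coe.mp h1
    exact_mod_cast h2
  have heq : ∀ Z : Set X, Z ∈ irreducibleComponents X →
      topologicalKrullDim Z = (r : WithBot ℕ∞) := by
    intro Z hZ
    rw [irreducibleComponents_eq_singleton, Set.mem_singleton_iff] at hZ
    subst hZ
    rw [← hr]
    exact (Homeomorph.Set.univ X).isHomeomorph.topologicalKrullDim_eq _
  have hd' : topologicalKrullDim X + ((n - r : ℕ) : WithBot ℕ∞) ≤ (n : WithBot ℕ∞) := by
    have h1 : ((r : ℕ) : WithBot ℕ∞) + ((n - r : ℕ) : WithBot ℕ∞) = (n : WithBot ℕ∞) := by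
      rw [← Nat.cast_add, Nat.add_sub_cancel' hrn]
    rw [hr]
    exact h1.le
  obtain ⟨ω₀, hω₀c, ⟨e₀⟩⟩ := Groth.Agent.LD.XS.DT.exists_dualizing_module n k ι r hd'
  obtain ⟨t₀, ht₀⟩ := DZ.exists_dualizing' n k ι hι r hrn hr.le ω₀ ⟨e₀⟩
  exact ⟨ω₀, t₀, isInvertible_of_regular n k ι r hrn heq hreg ω₀ ⟨e₀⟩, hω₀c,
    fun F hF => ht₀ F hF⟩

end Final

end Groth.Agent.LD.RRS.OI
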