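import Mathlib
import Groth.Agent.Lib.Lead.PD.LocFreeDual
import Groth.Agent.Lib.Lead.QC.TwistExt
import Groth.Agent.Lib.Lead.QC.FiniteFree
import Groth.Agent.Lib.Helper5.IntN.Add
import Groth.Agent.Lib.Helper5.Glue.F
import Groth.Agent.Lib.Helper5.AG.ProjProper
import Groth.Agent.Lib.Helper5.Snap.TP

/-! # Riemann–Roch on a Cohen–Macaulay projective surface with invertible dualizing sheaf. -/

set_option autoImplicit false
universe u
open CategoryTheory Limits Opposite Abelian AlgebraicGeometry TopologicalSpace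

namespace Groth.Agent.LD.RRS
open Groth.Agent.LD Groth.Agent.LD.QC Groth.Agent.LD.MS Groth.Agent.LD.EZ Groth.Agent.H5.IntN

attribute [-instance] Groth.Agent.LD.QC.stalkModule

section Dual
variable (N : ℕ) (k : Type u) [Field k] {X : Scheme.{u}}
  (i : X ⟶ Proj (CohB1.polyGrading N k)) [IsClosedImmersion i]
  [X.Over (Spec (CommRingCat.of k))]

/-- the sheaf Hom out of an invertible module is the twist by the inverse. -/
noncomputable def sheafHomIso (L L' : X.Modules) (e' : CohB1.tensorMod L' L ≅ unitMod X)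
    [ModSite.HasSheafHom (O := X.sheaf) L'] (M : X.Modules) :
    (ModSite.sheafHom (O := X.sheaf) L').obj M ≅ CohB1.tensorMod M L :=
  ((ModSite.sheafHomAdj (O := X.sheaf) L').rightAdjointUniq
    (twEquiv L' L e').toAdjunction).app M

include i in
/-- **duality for invertible modules**: `h^j(L⁻¹) = h^{n-j}(ω ⊗ L)`. -/
theorem finrank_HH_eq
    (hi : i ≫ CohB1.ProjSpace.toSpec N k = X ↘ Spec (CommRingCat.of k)) (n : ℕ)
    (hCM : ∀ x : X, LocCoh.IsCohenMacaulayLocalRing (X.presheaf.stalk x))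
    (heq : ∀ Z : Set X, Z ∈ irreducibleComponents X →
      topologicalKrullDim Z = (n : WithBot ℕ∞))
    (ω : X.Modules) (hω : Coh.IsCoh ω) (t : Coh.HH X ω n →ₗ[k] k)
    (hdual : ∀ F : X.Modules, Coh.IsCoh F → CL.IsDualFor k n ω t F)
    (L L' : X.Modules) (hL' : PicF.IsInvertible L') (e' : CohB1.tensorMod L' L ≅ unitMod X)
    (j q : ℕ) (hjq : j + q = n) :
    Module.finrank k (Coh.HH X L' j) =
      Module.finrank k (Coh.HH X (CohB1.tensorMod ω L) q) := by
  haveI : ModSite.HasSheafHom (O := X.sheaf) L' := hasSheafHom _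
  haveI := Groth.Agent.H1.sheafOfModules_isGrothendieckAbelian
    (Opens.grothendieckTopology X) X.ringCatSheaf
  haveI : EnoughInjectives X.Modules :=
    inferInstanceAs (EnoughInjectives (SheafOfModules.{u} X.ringCatSheaf))
  haveI : HasExt.{u} X.Modules := hasExt_of_enoughInjectives.{u} _
  have hlf : FlatMod.IsFinLocFree L' := isFinLocFree_of_isInvertible L' hL'
  have hcoh : Coh.IsCoh L' := Groth.Agent.H5.Snap.isCoh_of_isInvertible hL'
  have hCM' : ∀ x : X, IsClosed ({x} : Set X) →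
      LocCoh.IsCohenMacaulayLocalRing (X.presheaf.stalk x) ∧
        ringKrullDim (X.presheaf.stalk x) = n :=
    fun x hx => ⟨hCM x, Groth.Agent.LD.PD.ringKrullDim_stalk_of_equidim N k i hi n heq x hx⟩
  obtain ⟨e1⟩ := (Groth.Agent.LD.PD.duality_on N k i n hCM' ω hω t hdual L' hcoh q).1 j hjq
  obtain ⟨e2⟩ := nonempty_ext_linearEquiv_HH_sheafHom k L' ω hlf q
  let e3 := CL.HHisoEquiv k (sheafHomIso L L' e' ω) q
  have h := (e1.symm ≪≫ₗ e2 ≪≫ₗ e3).finrank_eq
  rw [Subspace.dual_finrank_eq] at h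
  exact h

end Dual

section Num
variable (k : Type u) [Field k] {X : Scheme.{u}} [X.Over (Spec (CommRingCat.of k))]
  [IsProper (X ↘ Spec (CommRingCat.of k))]

lemma intNum_one (d : ℕ) (B G : X.Modules) (hB : Coh.IsCoh B) (hG : Coh.IsCoh G) :
    FGA.intNum k X d ![B] G =
      FGA.eulerCharLE k X G d - FGA.eulerCharLE k X (CohB1.tensorMod B G) d := by
  have h := intNum_cons k d 0 B hB (![] : Fin 0 → X.Modules) (fun i => i.elim0) G hG
  rw [intNum_zero, intNum_zero] at h
  exact h

lemma intNum_two (d : ℕ) (A B F : X.Modules) (hA : Coh.IsCoh A) (hB : Coh.IsCoh B)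
    (hF : Coh.IsCoh F) :
    FGA.intNum k X d ![A, B] F =
      (FGA.eulerCharLE k X F d - FGA.eulerCharLE k X (CohB1.tensorMod B F) d) -
      (FGA.eulerCharLE k X (CohB1.tensorMod A F) d -
        FGA.eulerCharLE k X (CohB1.tensorMod B (CohB1.tensorMod A F)) d) := by
  have h := intNum_cons k d 1 A hA (![B] : Fin 1 → X.Modules)
    (fun i => by rw [Subsingleton.elim i 0]; exact hB) F hF
  rw [intNum_one k d B F hB hF,
    intNum_one k d B _ hB (Groth.Agent.H5.DegC.isCoh_tensorMod' hA hF)] at h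
  exact h

lemma intNum_three (d : ℕ) (A B C F : X.Modules) (hA : Coh.IsCoh A) (hB : Coh.IsCoh B)
    (hC : Coh.IsCoh C) (hF : Coh.IsCoh F) :
    FGA.intNum k X d ![A, B, C] F =
      FGA.intNum k X d ![B, C] F - FGA.intNum k X d ![B, C] (CohB1.tensorMod A F) :=
  intNum_cons k d 2 A hA (![B, C] : Fin 2 → X.Modules)
    (fun i => by fin_cases i; exacts [hB, hC]) F hF

omit [IsProper (X ↘ Spec (CommRingCat.of k))] in
lemma eulerCharLE_two_eq (F G : X.Modules)
    (h0 : Module.finrank k (Coh.HH X F 0) = Module.finrank k (Coh.HH X G 2))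
    (h1 : Module.finrank k (Coh.HH X F 1) = Module.finrank k (Coh.HH X G 1))
    (h2 : Module.finrank k (Coh.HH X F 2) = Module.finrank k (Coh.HH X G 0)) :
    FGA.eulerCharLE k X F 2 = FGA.eulerCharLE k X G 2 := by
  unfold FGA.eulerCharLE
  simp only [Finset.sum_range_succ, Finset.sum_range_zero, h0, h1, h2]
  ring

/-- the numerical part of Riemann–Roch on a surface. -/
theorem rr_num (hd : topologicalKrullDim X ≤ ((2 : ℕ) : WithBot ℕ∞))
    (ω L L' : X.Modules) (hω : Coh.IsCoh ω) (hL : PicF.IsInvertible L)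
    (hL' : PicF.IsInvertible L') (e : CohB1.tensorMod L L' ≅ Coh.structureModule X)
    (hw : FGA.eulerCharLE k X (CohB1.tensorMod ω (Coh.structureModule X)) 2 =
      FGA.eulerCharLE k X (Coh.structureModule X) 2)
    (hv : FGA.eulerCharLE k X (CohB1.tensorMod ω L) 2 = FGA.eulerCharLE k X L' 2) :
    2 * Curv2.euler k X L =
      FGA.intNum k X 2 ![L, L] (Coh.structureModule X) -
        FGA.intNum k X 2 ![L, ω] (Coh.structureModule X) +
        2 * Curv2.euler k X (Coh.structureModule X) := by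
  have hO : Coh.IsCoh (Coh.structureModule X) := PF.isCoh_unitMod X
  have hLc : Coh.IsCoh L := Groth.Agent.H5.Snap.isCoh_of_isInvertible hL
  have hL'c : Coh.IsCoh L' := Groth.Agent.H5.Snap.isCoh_of_isInvertible hL'
  have E1 := intNum_two k 2 L L (Coh.structureModule X) hLc hLc hO
  have E2 := intNum_two k 2 L ω (Coh.structureModule X) hLc hω hO
  have E3 := intNum_three k 2 L L L L' hLc hLc hLc hL'c
  rw [intNum_two k 2 L L L' hLc hLc hL'c,
    intNum_two k 2 L L _ hLc hLc (Groth.Agent.H5.DegC.isCoh_tensorMod' hLc hL'c)] at E3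
  have Z : FGA.intNum k X 2 ![L, L, L] L' = 0 := by
    refine intNum_eq_zero k 2 hd ![L, L, L] (fun i => by fin_cases i <;> exact hL) L' hL'c ?_
    have h1 : topologicalKrullDim (CohB1.support L') ≤ topologicalKrullDim X :=
      Topology.IsInducing.subtypeVal.topologicalKrullDim_le
    refine lt_of_le_of_lt (h1.trans hd) ?_
    have : ((2 : ℕ∞) : WithBot ℕ∞) < ((3 : ℕ∞) : WithBot ℕ∞) :=
      WithBot.coe_lt_coe.mpr (by norm_num)
    exact_mod_cast this
  have a1 : FGA.eulerCharLE k X (CohB1.tensorMod L (Coh.structureModule X)) 2 =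
      FGA.eulerCharLE k X L 2 := eulerCharLE_iso k (SecTwist.unitorR L) 2
  have a2 : FGA.eulerCharLE k X (CohB1.tensorMod L (CohB1.tensorMod L (Coh.structureModule X))) 2 =
      FGA.eulerCharLE k X (CohB1.tensorMod L L) 2 :=
    eulerCharLE_iso k ((twFCongr (SecTwist.unitorR L)).app L) 2
  have a4 : FGA.eulerCharLE k X (CohB1.tensorMod ω (CohB1.tensorMod L (Coh.structureModule X))) 2 =
      FGA.eulerCharLE k X (CohB1.tensorMod ω L) 2 :=
    eulerCharLE_iso k ((twFCongr (SecTwist.unitorR L)).app ω) 2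
  have b1 : FGA.eulerCharLE k X (CohB1.tensorMod L L') 2 =
      FGA.eulerCharLE k X (Coh.structureModule X) 2 := eulerCharLE_iso k e 2
  have b2 : FGA.eulerCharLE k X (CohB1.tensorMod L (CohB1.tensorMod L L')) 2 =
      FGA.eulerCharLE k X (CohB1.tensorMod L (Coh.structureModule X)) 2 :=
    eulerCharLE_iso k ((twFCongr e).app L) 2
  have b3 : FGA.eulerCharLE k X
      (CohB1.tensorMod L (CohB1.tensorMod L (CohB1.tensorMod L L'))) 2 =
      FGA.eulerCharLE k X (CohB1.tensorMod L (CohB1.tensorMod L (Coh.structureModule X))) 2 :=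
    eulerCharLE_iso k ((twFCongr ((twFCongr e).app L)).app L) 2
  have c1 := eulerCharLE_eq_euler k 2 hd L hLc
  have c2 := eulerCharLE_eq_euler k 2 hd (Coh.structureModule X) hO
  rw [E1, E2, ← c1, ← c2]
  rw [E3] at Z
  linarith

end Num

end Groth.Agent.LD.RRS
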