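import Mathlib
import Groth.Agent.Lib.Lead.RR.OmegaInv
import Groth.Agent.Lib.Lead.RR.SurfDual
import Groth.Agent.S14696
import Groth.Agent.Lib.Helper5.IntN.Surf1
import Groth.Agent.Lib.Helper5.IntN.Surf2
import Groth.Agent.Lib.Helper5.IntN.Pos1
import Groth.Agent.Lib.Helper5.IntN.PosMain
import Groth.Agent.Lib.Helper5.VAmple.J
import Groth.Agent.Lib.Helper5.VAmple.I
import Groth.Agent.Lib.Helper1.CMFlat
import Groth.Agent.Lib.Helper1.SmoothDepth
import Groth.Agent.Lib.Lead.Curve.Euler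

/-!
# Regular projective surfaces: vanishing of `H²`, growth of sections, Hodge index

For `X` an integral projective surface over an algebraically closed field with regular local
rings: the dualizing module `ω` is invertible (`OmegaInv`), and together with Riemann–Roch and
duality for invertible modules this gives Hartshorne V.1.7, V.1.8 and V.1.9 (the Hodge index
theorem).
-/

set_option autoImplicit false
universe u
open CategoryTheory Limits Opposite Abelian AlgebraicGeometry TopologicalSpace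

namespace Groth.Agent.LD.RRS.Kit

open Groth.Agent.LD Groth.Agent.LD.QC Groth.Agent.H5.IntN Groth.Agent.H5.Curve4 Groth.Agent.H5.DegC
  Groth.Agent.H5.Snap Groth.Agent.H5.Deg Groth.Agent.H5.HP

attribute [-instance] Groth.Agent.LD.QC.stalkModule

variable (k : Type u) [Field k] {X : Scheme.{u}} [X.Over (Spec (CommRingCat.of k))]
  [IsProper (X ↘ Spec (CommRingCat.of k))]

section Num

omit [IsProper (X ↘ Spec (CommRingCat.of k))] [X.Over (Spec (CommRingCat.of k))] in
lemma supp_le (hd : topologicalKrullDim X ≤ ((2 : ℕ) : WithBot ℕ∞)) (F : X.Modules) :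
    topologicalKrullDim (CohB1.support F) ≤ ((1 + 1 : ℕ) : WithBot ℕ∞) :=
  le_trans Topology.IsInducing.subtypeVal.topologicalKrullDim_le hd

omit [IsProper (X ↘ Spec (CommRingCat.of k))] in
lemma eulerCharLE_two (F : X.Modules) :
    FGA.eulerCharLE k X F 2 = (Module.finrank k (Coh.HH X F 0) : ℤ) -
      Module.finrank k (Coh.HH X F 1) + Module.finrank k (Coh.HH X F 2) := by
  unfold FGA.eulerCharLE
  simp only [Finset.sum_range_succ, Finset.sum_range_zero]
  ring

variable (hd : topologicalKrullDim X ≤ ((2 : ℕ) : WithBot ℕ∞))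
include hd

lemma intNum_tensor_left (A B C : X.Modules) (hA : PicF.IsInvertible A)
    (hB : PicF.IsInvertible B) (hC : PicF.IsInvertible C) :
    FGA.intNum k X 2 ![CohB1.tensorMod A B, C] (Coh.structureModule X) =
      FGA.intNum k X 2 ![A, C] (Coh.structureModule X) +
        FGA.intNum k X 2 ![B, C] (Coh.structureModule X) :=
  intNum_cons_tensor k 2 hd ![C] (fun i => by rw [Subsingleton.elim i 0]; exact hC) A B hA hB _
    (PF.isCoh_unitMod X) (supp_le hd _)

lemma intNum_pow_left (A C : X.Modules) (hA : PicF.IsInvertible A) (hC : PicF.IsInvertible C)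
    (m : ℕ) :
    FGA.intNum k X 2 ![CohB1.tensorPow A m, C] (Coh.structureModule X) =
      (m : ℤ) * FGA.intNum k X 2 ![A, C] (Coh.structureModule X) :=
  intNum_cons_tensorPow k 2 hd ![C] (fun i => by rw [Subsingleton.elim i 0]; exact hC) A hA _
    (PF.isCoh_unitMod X) (supp_le hd _) m

lemma intNum_inv_left (A A' C : X.Modules) (hA : PicF.IsInvertible A) (hC : PicF.IsInvertible C)
    (e : CohB1.tensorMod A A' ≅ Coh.structureModule X) :
    FGA.intNum k X 2 ![A', C] (Coh.structureModule X) =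
      - FGA.intNum k X 2 ![A, C] (Coh.structureModule X) :=
  intNum_cons_inv k 2 hd ![C] (fun i => by rw [Subsingleton.elim i 0]; exact hC) A A' hA ⟨e⟩ _
    (PF.isCoh_unitMod X) (supp_le hd _)

omit hd in
lemma intNum_comm (A B : X.Modules) (hA : PicF.IsInvertible A) (hB : PicF.IsInvertible B) :
    FGA.intNum k X 2 ![A, B] (Coh.structureModule X) =
      FGA.intNum k X 2 ![B, A] (Coh.structureModule X) :=
  intNum_pair_comm k 2 A B (isCoh_of_isInvertible hA) (isCoh_of_isInvertible hB) _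
    (PF.isCoh_unitMod X)

lemma intNum_inv_inv (A A' B B' : X.Modules) (hA : PicF.IsInvertible A)
    (hB : PicF.IsInvertible B) (eA : CohB1.tensorMod A A' ≅ Coh.structureModule X)
    (eB : CohB1.tensorMod B B' ≅ Coh.structureModule X) :
    FGA.intNum k X 2 ![A', B'] (Coh.structureModule X) =
      FGA.intNum k X 2 ![A, B] (Coh.structureModule X) := by
  have hA' : PicF.IsInvertible A' := QC.isInvertible_of_tensor_iso hA eA
  have hB' : PicF.IsInvertible B' := QC.isInvertible_of_tensor_iso hB eB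
  rw [intNum_inv_left k hd A A' B' hA hB' eA, intNum_comm k A B' hA hB',
    intNum_inv_left k hd B B' A hB hA eB, intNum_comm k B A hB hA, neg_neg]

/-- integral powers of an invertible module with a chosen inverse. -/
noncomputable def zpow (L L' : X.Modules) (z : ℤ) : X.Modules :=
  if 0 ≤ z then CohB1.tensorPow L z.toNat else CohB1.tensorPow L' (-z).toNat

omit hd [IsProper (X ↘ Spec (CommRingCat.of k))] [X.Over (Spec (CommRingCat.of k))] in
lemma isInvertible_zpow {L L' : X.Modules} (hL : PicF.IsInvertible L)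
    (hL' : PicF.IsInvertible L') (z : ℤ) : PicF.IsInvertible (zpow L L' z) := by
  unfold zpow
  split_ifs
  exacts [isInvertible_tensorPow hL _, isInvertible_tensorPow hL' _]

lemma intNum_zpow_left (L L' C : X.Modules) (hL : PicF.IsInvertible L)
    (hC : PicF.IsInvertible C) (e : CohB1.tensorMod L L' ≅ Coh.structureModule X) (z : ℤ) :
    FGA.intNum k X 2 ![zpow L L' z, C] (Coh.structureModule X) =
      z * FGA.intNum k X 2 ![L, C] (Coh.structureModule X) := by
  have hL' : PicF.IsInvertible L' := QC.isInvertible_of_tensor_iso hL e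
  unfold zpow
  split_ifs with h
  · rw [intNum_pow_left k hd L C hL hC, Int.toNat_of_nonneg h]
  · rw [intNum_pow_left k hd L' C hL' hC, intNum_inv_left k hd L L' C hL hC e,
      Int.toNat_of_nonneg (by omega)]
    ring

end Num

section Sec
variable [IsIntegral X]

/-- **an invertible module with a nonzero section meets an ample module nonnegatively.** -/
theorem intNum_nonneg_of_section (hdim : topologicalKrullDim X = 2) (N : X.Modules)
    (hN : PicF.IsInvertible N) (σ : unitMod X ⟶ N) (hσ : σ ≠ 0) (H : X.Modules)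
    (hH : CohB1.IsAmple H) :
    0 ≤ FGA.intNum k X 2 ![N, H] (Coh.structureModule X) := by
  have hd : topologicalKrullDim X ≤ ((2 : ℕ) : WithBot ℕ∞) := le_of_eq hdim
  have hdimr : topologicalKrullDim X ≤ ((1 + 1 : ℕ) : WithBot ℕ∞) := le_of_eq hdim
  obtain ⟨N', hN', ⟨eN⟩⟩ := Groth.Agent.H5.Glue.exists_inverse N hN
  obtain ⟨H', hH', ⟨eH⟩⟩ := Groth.Agent.H5.Glue.exists_inverse H hH.1
  let i1 : CohB1.tensorPow N 1 ≅ N := QC.tensorCommAll (unitMod X) N ≪≫ SecTwist.unitorR N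
  obtain ⟨σ', hσ'def⟩ : ∃ σ' : unitMod X ⟶ CohB1.tensorPow N 1, σ' = σ ≫ i1.inv := ⟨_, rfl⟩
  have hσ' : σ' ≠ 0 := by
    intro h
    apply hσ
    have h1 : σ = σ' ≫ i1.hom := by
      rw [hσ'def, Category.assoc, Iso.inv_hom_id, Category.comp_id]
    rw [h1, h, zero_comp]
  obtain ⟨hQc, hsupp, h2⟩ := intNum_cons_eq_cokernel k 2 hd hdimr ![H']
    (fun i => by rw [Subsingleton.elim i 0]; exact hH') N N' hN ⟨eN⟩ 1 σ' hσ'
  have hησ : genericPoint X ∈ CohB1.genLocus _ σ' :=
    Groth.Agent.H5.Curve2.genericPoint_mem_genLocus (isInvertible_tensorPow hN 1) σ' hσ'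
  have hle : topologicalKrullDim (CohB1.support (cokernel (twistBy (unitMod X) σ'))) ≤
      ((1 : ℕ) : WithBot ℕ∞) := by
    apply dim_le_of_ne_univ (r := 1) hdim _ (isClosed_support_of_isCoh hQc)
    intro heq
    have : genericPoint X ∈ CohB1.support (cokernel (twistBy (unitMod X) σ')) := by
      rw [heq]; trivial
    rw [hsupp] at this
    exact this hησ
  have hp := intNum_nonneg_of_isAmple k X 2 hd ![H] ![H']
    (fun i => by rw [Subsingleton.elim i 0]; exact hH)
    (fun i => by rw [Subsingleton.elim i 0]; exact ⟨eH⟩) _ hQc hle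
  rw [← h2] at hp
  have h3 : 0 ≤ FGA.intNum k X 2 ![N', H'] (Coh.structureModule X) := by
    have h4 : ((1 : ℕ) : ℤ) * FGA.intNum k X 2 ![N', H'] (Coh.structureModule X) =
        FGA.intNum k X 2 ![N', H'] (Coh.structureModule X) := by
      push_cast
      ring
    rw [← h4]
    exact hp
  rw [intNum_inv_inv k hd N N' H H' hN hH.1 eN eH] at h3
  exact h3

end Sec

section Reg
variable [IsAlgClosed k] [IsIntegral X]

omit [IsProper (X ↘ Spec (CommRingCat.of k))] in
/-- **the canonical package of a regular projective surface**: an invertible module `ω` with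
Riemann–Roch and duality for invertible modules. -/
theorem exists_K (hdim : topologicalKrullDim X = 2)
    (hreg : ∀ x : X, IsRegularLocalRing (X.presheaf.stalk x))
    (hproj : ∃ (n : ℕ) (ι : X ⟶ CohB1.ProjSpace n k), IsClosedImmersion ι ∧
      ι ≫ CohB1.ProjSpace.toSpec n k = (X ↘ (Spec (CommRingCat.of k)))) :
    ∃ ω : X.Modules, PicF.IsInvertible ω ∧
      (∀ L : X.Modules, PicF.IsInvertible L →
        2 * Curv2.euler k X L = FGA.intNum k X 2 ![L, L] (Coh.structureModule X) -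
          FGA.intNum k X 2 ![L, ω] (Coh.structureModule X) +
          2 * Curv2.euler k X (Coh.structureModule X)) ∧
      (∀ L L' : X.Modules, PicF.IsInvertible L' → (CohB1.tensorMod L' L ≅ unitMod X) →
        Module.finrank k (Coh.HH X L' 2) =
          Module.finrank k (Coh.HH X (CohB1.tensorMod ω L) 0)) := by
  classical
  obtain ⟨N, ι, hcl, hι⟩ := hproj
  let ι' : X ⟶ Proj (CohB1.polyGrading N k) := ι
  haveI : IsClosedImmersion ι' := hcl
  have hd2 : topologicalKrullDim X = ((2 : ℕ) : WithBot ℕ∞) := by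
    rw [hdim]
    norm_cast
  have heq : ∀ Z : Set X, Z ∈ irreducibleComponents X →
      topologicalKrullDim Z = ((2 : ℕ) : WithBot ℕ∞) := by
    intro Z hZ
    rw [irreducibleComponents_eq_singleton, Set.mem_singleton_iff] at hZ
    subst hZ
    rw [← hd2]
    exact (Homeomorph.Set.univ X).isHomeomorph.topologicalKrullDim_eq _
  have hCM : ∀ x : X, LocCoh.IsCohenMacaulayLocalRing (X.presheaf.stalk x) := fun x => by
    haveI := hreg x
    exact Groth.Agent.H1.CMFlat.isCohenMacaulayLocalRing_of_isRegularLocalRing _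
  obtain ⟨ω, t, hinv, hcoh, hdual⟩ :=
    Groth.Agent.LD.RRS.OI.exists_canonical N k ι' hι 2 hd2 hreg
  refine ⟨ω, hinv, fun L hL => ?_, fun L L' hL' e' => ?_⟩
  · exact Groth.Agent.S14696.result k X hdim ⟨N, ι, hcl, hι⟩ hCM ω hcoh hinv t
      (fun F hF => hdual F hF) L hL
  · exact Groth.Agent.LD.RRS.finrank_HH_eq N k ι' hι 2 hCM heq ω hcoh t hdual L L' hL' e' 2 0 rfl

/-- **Hartshorne V.1.7.** -/
theorem subsingleton_H2 (hdim : topologicalKrullDim X = 2)
    (hreg : ∀ x : X, IsRegularLocalRing (X.presheaf.stalk x))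
    (hproj : ∃ (n : ℕ) (ι : X ⟶ CohB1.ProjSpace n k), IsClosedImmersion ι ∧
      ι ≫ CohB1.ProjSpace.toSpec n k = (X ↘ (Spec (CommRingCat.of k))))
    (H : X.Modules) (hH : CohB1.IsAmple H) :
    ∃ n₀ : ℤ, ∀ L : X.Modules, PicF.IsInvertible L →
      n₀ < FGA.intNum k X 2 ![L, H] (Coh.structureModule X) → Subsingleton (Coh.HH X L 2) := by
  have hd : topologicalKrullDim X ≤ ((2 : ℕ) : WithBot ℕ∞) := le_of_eq hdim
  obtain ⟨ω, hωinv, -, hdu⟩ := exists_K k hdim hreg hproj
  refine ⟨FGA.intNum k X 2 ![ω, H] (Coh.structureModule X), fun L hL hlt => ?_⟩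
  by_contra hns
  haveI : Nontrivial (Coh.HH X L 2) := not_subsingleton_iff_nontrivial.mp hns
  obtain ⟨L', hL', ⟨e⟩⟩ := Groth.Agent.H5.Glue.exists_inverse L hL
  have hLc : Coh.IsCoh L := isCoh_of_isInvertible hL
  haveI : Module.Finite k (Coh.HH X L 2) := Groth.Agent.LD.Curve.finite_HH k X L hLc 2
  have hpos : 0 < Module.finrank k (Coh.HH X L 2) := Module.finrank_pos
  rw [hdu L' L hL e] at hpos
  have hnt : Nontrivial (Coh.HH X (CohB1.tensorMod ω L') 0) :=
    Module.nontrivial_of_finrank_pos hpos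
  obtain ⟨σ, hσ⟩ := exists_ne_zero_of_nontrivial_HH (CohB1.tensorMod ω L') hnt
  have hM : PicF.IsInvertible (CohB1.tensorMod ω L') := isInvertible_tensorMod hωinv hL'
  have h1 := intNum_nonneg_of_section k hdim _ hM σ hσ H hH
  rw [intNum_tensor_left k hd ω L' H hωinv hL' hH.1, intNum_inv_left k hd L L' H hL hH.1 e] at h1
  linarith

/-- **growth of sections** (Hartshorne V.1.8, quantitative form). -/
theorem exists_growth (hdim : topologicalKrullDim X = 2)
    (hreg : ∀ x : X, IsRegularLocalRing (X.presheaf.stalk x))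
    (hproj : ∃ (n : ℕ) (ι : X ⟶ CohB1.ProjSpace n k), IsClosedImmersion ι ∧
      ι ≫ CohB1.ProjSpace.toSpec n k = (X ↘ (Spec (CommRingCat.of k))))
    (H : X.Modules) (hH : CohB1.IsAmple H) (L : X.Modules) (hL : PicF.IsInvertible L)
    (hLH : 0 < FGA.intNum k X 2 ![L, H] (Coh.structureModule X))
    (hLL : 0 < FGA.intNum k X 2 ![L, L] (Coh.structureModule X)) :
    ∃ c : ℚ, 0 < c ∧ ∃ m₀ : ℕ, ∀ m : ℕ, m₀ ≤ m →
      c * (m : ℚ) ^ 2 < (Module.finrank k (Coh.HH X (CohB1.tensorPow L m) 0) : ℚ) := by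
  have hd : topologicalKrullDim X ≤ ((2 : ℕ) : WithBot ℕ∞) := le_of_eq hdim
  obtain ⟨ω, hωinv, hrr, -⟩ := exists_K k hdim hreg hproj
  obtain ⟨n₀, hv⟩ := subsingleton_H2 k hdim hreg hproj H hH
  obtain ⟨a, ha⟩ : ∃ a : ℤ, a = FGA.intNum k X 2 ![L, L] (Coh.structureModule X) := ⟨_, rfl⟩
  obtain ⟨b, hb⟩ : ∃ b : ℤ, b = FGA.intNum k X 2 ![L, ω] (Coh.structureModule X) := ⟨_, rfl⟩
  obtain ⟨c₀, hc₀⟩ : ∃ c₀ : ℤ, c₀ = Curv2.euler k X (Coh.structureModule X) := ⟨_, rfl⟩
  obtain ⟨e, he⟩ : ∃ e : ℤ, e = FGA.intNum k X 2 ![L, H] (Coh.structureModule X) := ⟨_, rfl⟩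
  rw [← ha] at hLL
  rw [← he] at hLH
  have haq : (0 : ℚ) < (a : ℚ) := by exact_mod_cast hLL
  refine ⟨(a : ℚ) / 4, by positivity, n₀.natAbs + 2 * b.natAbs + 4 * c₀.natAbs + 1,
    fun m hm => ?_⟩
  have hP : PicF.IsInvertible (CohB1.tensorPow L m) := isInvertible_tensorPow hL m
  have hPc : Coh.IsCoh (CohB1.tensorPow L m) := isCoh_of_isInvertible hP
  have e1 : FGA.intNum k X 2 ![CohB1.tensorPow L m, H] (Coh.structureModule X) = (m : ℤ) * e := by
    rw [he]
    exact intNum_pow_left k hd L H hL hH.1 m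
  have e2 : FGA.intNum k X 2 ![CohB1.tensorPow L m, ω] (Coh.structureModule X) = (m : ℤ) * b := by
    rw [hb]
    exact intNum_pow_left k hd L ω hL hωinv m
  have e3 : FGA.intNum k X 2 ![CohB1.tensorPow L m, CohB1.tensorPow L m]
      (Coh.structureModule X) = (m : ℤ) * ((m : ℤ) * a) := by
    rw [ha, intNum_pow_left k hd L _ hL hP m, intNum_comm k L _ hL hP,
      intNum_pow_left k hd L L hL hL m]
  have hmn : (n₀.natAbs : ℤ) + 2 * b.natAbs + 4 * c₀.natAbs + 1 ≤ (m : ℤ) := by exact_mod_cast hm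
  have hm0 : (0 : ℤ) ≤ (m : ℤ) := Int.natCast_nonneg m
  have hn0 : n₀ ≤ n₀.natAbs := Int.le_natAbs
  have hbB : b ≤ b.natAbs := Int.le_natAbs
  have hcC : -c₀ ≤ c₀.natAbs := by
    rw [← Int.natAbs_neg]
    exact Int.le_natAbs
  have hN0 : (0 : ℤ) ≤ n₀.natAbs := Int.natCast_nonneg _
  have hB0 : (0 : ℤ) ≤ b.natAbs := Int.natCast_nonneg _
  have hC0 : (0 : ℤ) ≤ c₀.natAbs := Int.natCast_nonneg _
  have h1e : 1 ≤ e := Int.add_one_le_iff.mpr hLH
  have h1a : 1 ≤ a := Int.add_one_le_iff.mpr hLL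
  have hsub : Subsingleton (Coh.HH X (CohB1.tensorPow L m) 2) := by
    apply hv _ hP
    rw [e1]
    have t0 : 0 ≤ (m : ℤ) * (e - 1) := mul_nonneg hm0 (sub_nonneg.mpr h1e)
    nlinarith [t0]
  have hRR := hrr _ hP
  rw [e3, e2, ← hc₀] at hRR
  have hχ := eulerCharLE_two k (CohB1.tensorPow L m)
  rw [eulerCharLE_eq_euler k 2 hd _ hPc] at hχ
  have h2z : Module.finrank k (Coh.HH X (CohB1.tensorPow L m) 2) = 0 :=
    Module.finrank_zero_of_subsingleton
  rw [h2z] at hχ
  have hh1 : (0 : ℤ) ≤ (Module.finrank k (Coh.HH X (CohB1.tensorPow L m) 1) : ℤ) :=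
    Int.natCast_nonneg _
  have hh0 : (m : ℤ) * ((m : ℤ) * a) - (m : ℤ) * b + 2 * c₀ ≤
      2 * (Module.finrank k (Coh.HH X (CohB1.tensorPow L m) 0) : ℤ) := by
    push_cast at hχ
    linarith
  have t1 : 0 ≤ (m : ℤ) * (m : ℤ) * (a - 1) :=
    mul_nonneg (mul_nonneg hm0 hm0) (sub_nonneg.mpr h1a)
  have t2 : 0 ≤ (m : ℤ) * ((b.natAbs : ℤ) - b) := mul_nonneg hm0 (sub_nonneg.mpr hbB)
  have t3 : 0 ≤ (m : ℤ) * ((m : ℤ) - 2 * b.natAbs - 4 * c₀.natAbs - 1) :=
    mul_nonneg hm0 (by linarith)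
  have t4 : 0 ≤ ((m : ℤ) - 1) * (4 * (c₀.natAbs : ℤ) + 1) :=
    mul_nonneg (by linarith) (by linarith)
  have hkey : 0 < (m : ℤ) * ((m : ℤ) * a) - 2 * ((m : ℤ) * b) + 4 * c₀ := by
    nlinarith [t1, t2, t3, t4, hcC]
  have hq1 : ((m : ℚ) * ((m : ℚ) * (a : ℚ)) - (m : ℚ) * (b : ℚ) + 2 * (c₀ : ℚ)) ≤
      2 * (Module.finrank k (Coh.HH X (CohB1.tensorPow L m) 0) : ℚ) := by
    exact_mod_cast hh0
  have hq2 : (0 : ℚ) < (m : ℚ) * ((m : ℚ) * (a : ℚ)) - 2 * ((m : ℚ) * (b : ℚ)) + 4 * (c₀ : ℚ) := by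
    exact_mod_cast hkey
  nlinarith [hq1, hq2]

/-- **the Hodge index theorem** (Hartshorne V.1.9). -/
theorem hodge_index (hdim : topologicalKrullDim X = 2)
    (hreg : ∀ x : X, IsRegularLocalRing (X.presheaf.stalk x))
    (hproj : ∃ (n : ℕ) (ι : X ⟶ CohB1.ProjSpace n k), IsClosedImmersion ι ∧
      ι ≫ CohB1.ProjSpace.toSpec n k = (X ↘ (Spec (CommRingCat.of k))))
    (H : X.Modules) (hH : CohB1.IsAmple H) (L : X.Modules) (hL : PicF.IsInvertible L)
    (h0 : FGA.intNum k X 2 ![L, H] (Coh.structureModule X) = 0) :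
    FGA.intNum k X 2 ![L, L] (Coh.structureModule X) ≤ 0 := by
  by_contra hcon
  have hpos : 0 < FGA.intNum k X 2 ![L, L] (Coh.structureModule X) := not_le.mp hcon
  have hd : topologicalKrullDim X ≤ ((2 : ℕ) : WithBot ℕ∞) := le_of_eq hdim
  obtain ⟨n₁, -, hva⟩ := Groth.Agent.H5.VAmple.eventually_isRelVeryAmplePn_tensor
    (X ↘ Spec (CommRingCat.of k)) H L hH hL
  have hH₁ : CohB1.IsAmple (CohB1.tensorMod (CohB1.tensorPow H n₁) L) :=
    Groth.Agent.H5.VAmple.isAmple_of_isRelVeryAmplePn (X ↘ Spec (CommRingCat.of k)) _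
      (hva n₁ le_rfl)
  have hPn : PicF.IsInvertible (CohB1.tensorPow H n₁) := isInvertible_tensorPow hH.1 n₁
  have e1 : FGA.intNum k X 2 ![L, CohB1.tensorMod (CohB1.tensorPow H n₁) L]
      (Coh.structureModule X) = FGA.intNum k X 2 ![L, L] (Coh.structureModule X) := by
    rw [intNum_comm k L _ hL hH₁.1, intNum_tensor_left k hd _ L L hPn hL hL,
      intNum_pow_left k hd H L hH.1 hL n₁, intNum_comm k H L hH.1 hL, h0, mul_zero, zero_add]
  obtain ⟨c, hc, m₀, hgr⟩ := exists_growth k hdim hreg hproj _ hH₁ L hL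
    (by rw [e1]; exact hpos) hpos
  obtain ⟨L', hL', ⟨e⟩⟩ := Groth.Agent.H5.Glue.exists_inverse L hL
  obtain ⟨H', hH', ⟨eH⟩⟩ := Groth.Agent.H5.Glue.exists_inverse H hH.1
  have hm := hgr (m₀ + 1) (Nat.le_succ _)
  have hnt : Nontrivial (Coh.HH X (CohB1.tensorPow L (m₀ + 1)) 0) := by
    apply Module.nontrivial_of_finrank_pos (R := k)
    have h2 : (0 : ℚ) < (Module.finrank k (Coh.HH X (CohB1.tensorPow L (m₀ + 1)) 0) : ℚ) :=
      lt_of_le_of_lt (by positivity) hm
    exact_mod_cast h2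
  have h1 := intNum_ample_pos_of_sections k hdim L L' hL ⟨e⟩
    (by rw [intNum_inv_inv k hd L L' L L' hL hL e e]; exact hpos)
    ⟨m₀ + 1, Nat.succ_pos _, hnt⟩ H H' hH ⟨eH⟩
  rw [intNum_inv_inv k hd L L' H H' hL hH.1 e eH, h0] at h1
  exact lt_irrefl _ h1

end Reg

end Groth.Agent.LD.RRS.Kit
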