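import Mathlib
import Groth.Agent.Lib.Lead.RR.SurfKit

/-!
# Regular projective surfaces: the Hodge index theorem on the orthogonal complement
-/

set_option autoImplicit false
universe u
open CategoryTheory Limits Opposite Abelian AlgebraicGeometry TopologicalSpace

namespace Groth.Agent.LD.RRS.Kit

open Groth.Agent.LD Groth.Agent.LD.QC Groth.Agent.H5.IntN Groth.Agent.H5.Curve4 Groth.Agent.H5.DegC
  Groth.Agent.H5.Snap Groth.Agent.H5.Deg Groth.Agent.H5.HP

attribute [-instance] Groth.Agent.LD.QC.stalkModule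

variable (k : Type u) [Field k] {X : Scheme.{u}} [X.Over (Spec (CommRingCat.of k))]

theorem isProper_of_proj
    (hproj : ∃ (n : ℕ) (ι : X ⟶ CohB1.ProjSpace n k), IsClosedImmersion ι ∧
      ι ≫ CohB1.ProjSpace.toSpec n k = (X ↘ (Spec (CommRingCat.of k)))) :
    IsProper (X ↘ Spec (CommRingCat.of k)) := by
  obtain ⟨N, ι, hcl, hι⟩ := hproj
  let ι' : X ⟶ Proj (CohB1.polyGrading N k) := ι
  haveI : IsClosedImmersion ι' := hcl
  rw [← hι]
  let q : Proj (CohB1.polyGrading N k) ⟶ Spec (CommRingCat.of k) := CohB1.ProjSpace.toSpec N k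
  haveI : IsProper q := Groth.Agent.H5.AG.isProper_toSpec N k
  exact (inferInstance : IsProper (ι' ≫ q))

omit [X.Over (Spec (CommRingCat.of k))] in
theorem isAmple_hyperplane (n : ℕ) (ι : X ⟶ CohB1.ProjSpace n k) [IsClosedImmersion ι] :
    CohB1.IsAmple ((Scheme.Modules.pullback ι).obj (Twist.twistProjSpace n k 1)) :=
  PN.AmD.isAmple_pullback_of_isAffineHom ι _ (Groth.Agent.H5.VAmple.isAmple_O1 n k)

variable [IsProper (X ↘ Spec (CommRingCat.of k))] [IsAlgClosed k] [IsIntegral X]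

/-- **the Hodge index theorem on the orthogonal complement of a class of positive square.** -/
theorem hodge_index_orth (hdim : topologicalKrullDim X = 2)
    (hreg : ∀ x : X, IsRegularLocalRing (X.presheaf.stalk x))
    (hproj : ∃ (n : ℕ) (ι : X ⟶ CohB1.ProjSpace n k), IsClosedImmersion ι ∧
      ι ≫ CohB1.ProjSpace.toSpec n k = (X ↘ (Spec (CommRingCat.of k))))
    (L M : X.Modules) (hL : PicF.IsInvertible L) (hM : PicF.IsInvertible M)
    (hpos : 0 < FGA.intNum k X 2 ![L, L] (Coh.structureModule X))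
    (horth : FGA.intNum k X 2 ![L, M] (Coh.structureModule X) = 0) :
    FGA.intNum k X 2 ![M, M] (Coh.structureModule X) ≤ 0 := by
  have hd : topologicalKrullDim X ≤ ((2 : ℕ) : WithBot ℕ∞) := le_of_eq hdim
  have hproj' := hproj
  obtain ⟨N, ι, hcl, hι⟩ := hproj
  haveI : IsClosedImmersion ι := hcl
  obtain ⟨H, hHdef⟩ : ∃ H : X.Modules,
      H = (Scheme.Modules.pullback ι).obj (Twist.twistProjSpace N k 1) := ⟨_, rfl⟩
  have hH : CohB1.IsAmple H := by
    rw [hHdef]
    exact isAmple_hyperplane k N ι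
  by_contra hcon
  have hMM : 0 < FGA.intNum k X 2 ![M, M] (Coh.structureModule X) := not_le.mp hcon
  obtain ⟨L', hL', ⟨eL⟩⟩ := Groth.Agent.H5.Glue.exists_inverse L hL
  obtain ⟨M', hM', ⟨eM⟩⟩ := Groth.Agent.H5.Glue.exists_inverse M hM
  obtain ⟨a, ha⟩ : ∃ a : ℤ, a = FGA.intNum k X 2 ![M, H] (Coh.structureModule X) := ⟨_, rfl⟩
  obtain ⟨b, hb⟩ : ∃ b : ℤ, b = FGA.intNum k X 2 ![L, H] (Coh.structureModule X) := ⟨_, rfl⟩
  obtain ⟨LL, hLL⟩ : ∃ LL : ℤ, LL = FGA.intNum k X 2 ![L, L] (Coh.structureModule X) := ⟨_, rfl⟩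
  obtain ⟨MM, hMMd⟩ : ∃ MM : ℤ, MM = FGA.intNum k X 2 ![M, M] (Coh.structureModule X) := ⟨_, rfl⟩
  obtain ⟨zL, hzLdef⟩ : ∃ zL : X.Modules, zL = zpow L L' a := ⟨_, rfl⟩
  obtain ⟨zM, hzMdef⟩ : ∃ zM : X.Modules, zM = zpow M M' (-b) := ⟨_, rfl⟩
  have hzL : PicF.IsInvertible zL := by
    rw [hzLdef]
    exact isInvertible_zpow hL hL' a
  have hzM : PicF.IsInvertible zM := by
    rw [hzMdef]
    exact isInvertible_zpow hM hM' (-b)
  have hzLi : ∀ C : X.Modules, PicF.IsInvertible C →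
      FGA.intNum k X 2 ![zL, C] (Coh.structureModule X) =
        a * FGA.intNum k X 2 ![L, C] (Coh.structureModule X) := by
    intro C hC
    rw [hzLdef]
    exact intNum_zpow_left k hd L L' C hL hC eL a
  have hzMi : ∀ C : X.Modules, PicF.IsInvertible C →
      FGA.intNum k X 2 ![zM, C] (Coh.structureModule X) =
        (-b) * FGA.intNum k X 2 ![M, C] (Coh.structureModule X) := by
    intro C hC
    rw [hzMdef]
    exact intNum_zpow_left k hd M M' C hM hC eM (-b)
  have hD : PicF.IsInvertible (CohB1.tensorMod zL zM) := isInvertible_tensorMod hzL hzM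
  have hML : FGA.intNum k X 2 ![M, L] (Coh.structureModule X) = 0 := by
    rw [intNum_comm k M L hM hL, horth]
  have hDH : FGA.intNum k X 2 ![CohB1.tensorMod zL zM, H] (Coh.structureModule X) = 0 := by
    rw [intNum_tensor_left k hd zL zM H hzL hzM hH.1, hzLi H hH.1, hzMi H hH.1, ← ha, ← hb]
    ring
  have hLD : FGA.intNum k X 2 ![L, CohB1.tensorMod zL zM] (Coh.structureModule X) = a * LL := by
    rw [intNum_comm k L _ hL hD, intNum_tensor_left k hd zL zM L hzL hzM hL, hzLi L hL,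
      hzMi L hL, hML, ← hLL]
    ring
  have hMD : FGA.intNum k X 2 ![M, CohB1.tensorMod zL zM] (Coh.structureModule X) =
      (-b) * MM := by
    rw [intNum_comm k M _ hM hD, intNum_tensor_left k hd zL zM M hzL hzM hM, hzLi M hM,
      hzMi M hM, horth, ← hMMd]
    ring
  have hDD : FGA.intNum k X 2 ![CohB1.tensorMod zL zM, CohB1.tensorMod zL zM]
      (Coh.structureModule X) = a * a * LL + b * b * MM := by
    rw [intNum_tensor_left k hd zL zM _ hzL hzM hD, hzLi _ hD, hzMi _ hD, hLD, hMD]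
    ring
  have hle := hodge_index k hdim hreg hproj' H hH _ hD hDH
  rw [hDD] at hle
  rw [← hLL] at hpos
  rw [← hMMd] at hMM
  have h1L : 1 ≤ LL := Int.add_one_le_iff.mpr hpos
  have h1M : 1 ≤ MM := Int.add_one_le_iff.mpr hMM
  have hb2 : b * b ≤ 0 := by
    nlinarith [mul_nonneg (mul_self_nonneg b) (sub_nonneg.mpr h1M),
      mul_nonneg (mul_self_nonneg a) hpos.le]
  have hb0 : b = 0 := mul_self_eq_zero.mp (le_antisymm hb2 (mul_self_nonneg b))
  have h2 := hodge_index k hdim hreg hproj' H hH L hL (by rw [← hb]; exact hb0)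
  rw [← hLL] at h2
  linarith

end Groth.Agent.LD.RRS.Kit
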