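import Mathlib
import Groth.Agent.Lib.Lead.RR.SurfKit2
import Groth.Agent.Lib.Helper5.VAmple.L
import Groth.Agent.Lib.Lead.PN.OverBridge
import Groth.Agent.Lib.Lead.QC.AffineAmple
import Groth.Agent.Lib.Helper5.IntN.Klei5
import Groth.Agent.Lib.Helper5.Curve3.SmInt

/-!
# Regular projective surfaces over an arbitrary field

The results of `SurfKit` (vanishing of `H²`, growth of sections, the Hodge index theorem) hold
over an arbitrary base field; the hypothesis that `k` be algebraically closed there only came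
from the statement of a milestone used in the proof.  We redo the section without it and deduce
the Hodge inequality `(D·D)(H·H) ≤ (D·H)²` and the characterization of `(L·H) > 0` by sections.
-/

set_option autoImplicit false
universe u
open CategoryTheory Limits Opposite Abelian AlgebraicGeometry TopologicalSpace

namespace Groth.Agent.LD.RRS.KitG

open Groth.Agent.LD Groth.Agent.LD.QC Groth.Agent.H5.IntN Groth.Agent.H5.Curve4 Groth.Agent.H5.DegC
  Groth.Agent.H5.Snap Groth.Agent.H5.Deg Groth.Agent.H5.HP Groth.Agent.LD.RRS.Kit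

attribute [-instance] Groth.Agent.LD.QC.stalkModule

variable (k : Type u) [Field k] {X : Scheme.{u}} [X.Over (Spec (CommRingCat.of k))]

/-- Riemann–Roch numerics on a Cohen–Macaulay projective surface with invertible dualizing
module (no hypothesis on the field). -/
theorem rr_surface [IsIntegral X] (hdim : topologicalKrullDim X = 2)
    (hproj : ∃ (n : ℕ) (ι : X ⟶ CohB1.ProjSpace n k), IsClosedImmersion ι ∧
      ι ≫ CohB1.ProjSpace.toSpec n k = (X ↘ (Spec (CommRingCat.of k))))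
    (hCM : ∀ x : X, LocCoh.IsCohenMacaulayLocalRing (X.presheaf.stalk x))
    (ω : X.Modules) (hωcoh : Coh.IsCoh ω) (hωinv : PicF.IsInvertible ω)
    (t : Coh.HH X ω 2 →ₗ[k] k)
    (hdual : ∀ F : X.Modules, Coh.IsCoh F → CL.IsDualFor k 2 ω t F)
    (L : X.Modules) (hL : PicF.IsInvertible L) :
    2 * Curv2.euler k X L = FGA.intNum k X 2 ![L, L] (Coh.structureModule X) -
      FGA.intNum k X 2 ![L, ω] (Coh.structureModule X) +
      2 * Curv2.euler k X (Coh.structureModule X) := by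
  classical
  obtain ⟨N, ι, hcl, hι⟩ := hproj
  let ι' : X ⟶ Proj (CohB1.polyGrading N k) := ι
  haveI : IsClosedImmersion ι' := hcl
  haveI : IsProper (X ↘ Spec (CommRingCat.of k)) := by
    rw [← hι]
    let q : Proj (CohB1.polyGrading N k) ⟶ Spec (CommRingCat.of k) := CohB1.ProjSpace.toSpec N k
    haveI : IsProper q := Groth.Agent.H5.AG.isProper_toSpec N k
    exact (inferInstance : IsProper (ι' ≫ q))
  have hd2 : topologicalKrullDim X = ((2 : ℕ) : WithBot ℕ∞) := by
    rw [hdim]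
    norm_cast
  have heq : ∀ Z : Set X, Z ∈ irreducibleComponents X →
      topologicalKrullDim Z = ((2 : ℕ) : WithBot ℕ∞) := by
    intro Z hZ
    rw [irreducibleComponents_eq_singleton, Set.mem_singleton_iff] at hZ
    subst hZ
    rw [← hd2]
    exact (Homeomorph.Set.univ X).isHomeomorph.topologicalKrullDim_eq _
  obtain ⟨L', hL', ⟨e⟩⟩ := Groth.Agent.H5.Glue.exists_inverse L hL
  have e' : CohB1.tensorMod L' L ≅ Groth.Agent.LD.QC.unitMod X :=
    Groth.Agent.LD.QC.tensorCommAll L' L ≪≫ e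
  have eO : CohB1.tensorMod (Groth.Agent.LD.QC.unitMod X) (Groth.Agent.LD.QC.unitMod X) ≅
      Groth.Agent.LD.QC.unitMod X := SecTwist.unitorR _
  have hOinv : PicF.IsInvertible (Groth.Agent.LD.QC.unitMod X) :=
    Groth.Agent.LD.QC.isInvertible_unit X
  have D := fun (A A' : X.Modules) (hA' : PicF.IsInvertible A')
      (eA : CohB1.tensorMod A' A ≅ Groth.Agent.LD.QC.unitMod X) (j q : ℕ) (hjq : j + q = 2) =>
    Groth.Agent.LD.RRS.finrank_HH_eq N k ι' hι 2 hCM heq ω hωcoh t hdual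
      A A' hA' eA j q hjq
  have hw : FGA.eulerCharLE k X (CohB1.tensorMod ω (Coh.structureModule X)) 2 =
      FGA.eulerCharLE k X (Coh.structureModule X) 2 :=
    (Groth.Agent.LD.RRS.eulerCharLE_two_eq k _ _ (D _ _ hOinv eO 0 2 rfl) (D _ _ hOinv eO 1 1 rfl)
      (D _ _ hOinv eO 2 0 rfl)).symm
  have hv : FGA.eulerCharLE k X (CohB1.tensorMod ω L) 2 = FGA.eulerCharLE k X L' 2 :=
    (Groth.Agent.LD.RRS.eulerCharLE_two_eq k _ _ (D L L' hL' e' 0 2 rfl) (D L L' hL' e' 1 1 rfl)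
      (D L L' hL' e' 2 0 rfl)).symm
  exact Groth.Agent.LD.RRS.rr_num k hd2.le ω L L' hωcoh hL hL' e hw hv

variable [IsProper (X ↘ Spec (CommRingCat.of k))]

section Reg
variable [IsIntegral X]

omit [IsProper (X ↘ Spec (CommRingCat.of k))] in
/-- **the canonical package of a regular projective surface**: an invertible module `ω` with
Riemann–Roch and duality for invertible modules. -/
theorem exists_K (hdim : topologicalKrullDim X = 2)
    (hreg : ∀ x : X, IsRegularLocalRing (X.presheaf.stalk x))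
    (hproj : ∃ (n : ℕ) (ι : X ⟶ CohB1.ProjSpace n k), IsClosedImmersion ι ∧
      ι ≫ CohB1.ProjSpace.toSpec n k = (X ↘ (Spec (CommRingCat.of k)))) :
    ∃ ω : X.Modules, PicF.IsInvertible ω ∧
      (∀ L : X.Modules, PicF.IsInvertible L →
        2 * Curv2.euler k X L = FGA.intNum k X 2 ![L, L] (Coh.structureModule X) -
          FGA.intNum k X 2 ![L, ω] (Coh.structureModule X) +
          2 * Curv2.euler k X (Coh.structureModule X)) ∧
      (∀ L L' : X.Modules, PicF.IsInvertible L' → (CohB1.tensorMod L' L ≅ unitMod X) →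
        Module.finrank k (Coh.HH X L' 2) =
          Module.finrank k (Coh.HH X (CohB1.tensorMod ω L) 0)) := by
  classical
  obtain ⟨N, ι, hcl, hι⟩ := hproj
  let ι' : X ⟶ Proj (CohB1.polyGrading N k) := ι
  haveI : IsClosedImmersion ι' := hcl
  have hd2 : topologicalKrullDim X = ((2 : ℕ) : WithBot ℕ∞) := by
    rw [hdim]
    norm_cast
  have heq : ∀ Z : Set X, Z ∈ irreducibleComponents X →
      topologicalKrullDim Z = ((2 : ℕ) : WithBot ℕ∞) := by
    intro Z hZ
    rw [irreducibleComponents_eq_singleton, Set.mem_singleton_iff] at hZ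
    subst hZ
    rw [← hd2]
    exact (Homeomorph.Set.univ X).isHomeomorph.topologicalKrullDim_eq _
  have hCM : ∀ x : X, LocCoh.IsCohenMacaulayLocalRing (X.presheaf.stalk x) := fun x => by
    haveI := hreg x
    exact Groth.Agent.H1.CMFlat.isCohenMacaulayLocalRing_of_isRegularLocalRing _
  obtain ⟨ω, t, hinv, hcoh, hdual⟩ :=
    Groth.Agent.LD.RRS.OI.exists_canonical N k ι' hι 2 hd2 hreg
  refine ⟨ω, hinv, fun L hL => ?_, fun L L' hL' e' => ?_⟩
  · exact rr_surface k hdim ⟨N, ι, hcl, hι⟩ hCM ω hcoh hinv t hdual L hL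
  · exact Groth.Agent.LD.RRS.finrank_HH_eq N k ι' hι 2 hCM heq ω hcoh t hdual L L' hL' e' 2 0 rfl

/-- **Hartshorne V.1.7.** -/
theorem subsingleton_H2 (hdim : topologicalKrullDim X = 2)
    (hreg : ∀ x : X, IsRegularLocalRing (X.presheaf.stalk x))
    (hproj : ∃ (n : ℕ) (ι : X ⟶ CohB1.ProjSpace n k), IsClosedImmersion ι ∧
      ι ≫ CohB1.ProjSpace.toSpec n k = (X ↘ (Spec (CommRingCat.of k))))
    (H : X.Modules) (hH : CohB1.IsAmple H) :
    ∃ n₀ : ℤ, ∀ L : X.Modules, PicF.IsInvertible L →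
      n₀ < FGA.intNum k X 2 ![L, H] (Coh.structureModule X) → Subsingleton (Coh.HH X L 2) := by
  have hd : topologicalKrullDim X ≤ ((2 : ℕ) : WithBot ℕ∞) := le_of_eq hdim
  obtain ⟨ω, hωinv, -, hdu⟩ := exists_K k hdim hreg hproj
  refine ⟨FGA.intNum k X 2 ![ω, H] (Coh.structureModule X), fun L hL hlt => ?_⟩
  by_contra hns
  haveI : Nontrivial (Coh.HH X L 2) := not_subsingleton_iff_nontrivial.mp hns
  obtain ⟨L', hL', ⟨e⟩⟩ := Groth.Agent.H5.Glue.exists_inverse L hL
  have hLc : Coh.IsCoh L := isCoh_of_isInvertible hL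
  haveI : Module.Finite k (Coh.HH X L 2) := Groth.Agent.LD.Curve.finite_HH k X L hLc 2
  have hpos : 0 < Module.finrank k (Coh.HH X L 2) := Module.finrank_pos
  rw [hdu L' L hL e] at hpos
  have hnt : Nontrivial (Coh.HH X (CohB1.tensorMod ω L') 0) :=
    Module.nontrivial_of_finrank_pos hpos
  obtain ⟨σ, hσ⟩ := exists_ne_zero_of_nontrivial_HH (CohB1.tensorMod ω L') hnt
  have hM : PicF.IsInvertible (CohB1.tensorMod ω L') := isInvertible_tensorMod hωinv hL'
  have h1 := intNum_nonneg_of_section k hdim _ hM σ hσ H hH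
  rw [intNum_tensor_left k hd ω L' H hωinv hL' hH.1, intNum_inv_left k hd L L' H hL hH.1 e] at h1
  linarith

/-- **growth of sections** (Hartshorne V.1.8, quantitative form). -/
theorem exists_growth (hdim : topologicalKrullDim X = 2)
    (hreg : ∀ x : X, IsRegularLocalRing (X.presheaf.stalk x))
    (hproj : ∃ (n : ℕ) (ι : X ⟶ CohB1.ProjSpace n k), IsClosedImmersion ι ∧
      ι ≫ CohB1.ProjSpace.toSpec n k = (X ↘ (Spec (CommRingCat.of k))))
    (H : X.Modules) (hH : CohB1.IsAmple H) (L : X.Modules) (hL : PicF.IsInvertible L)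
    (hLH : 0 < FGA.intNum k X 2 ![L, H] (Coh.structureModule X))
    (hLL : 0 < FGA.intNum k X 2 ![L, L] (Coh.structureModule X)) :
    ∃ c : ℚ, 0 < c ∧ ∃ m₀ : ℕ, ∀ m : ℕ, m₀ ≤ m →
      c * (m : ℚ) ^ 2 < (Module.finrank k (Coh.HH X (CohB1.tensorPow L m) 0) : ℚ) := by
  have hd : topologicalKrullDim X ≤ ((2 : ℕ) : WithBot ℕ∞) := le_of_eq hdim
  obtain ⟨ω, hωinv, hrr, -⟩ := exists_K k hdim hreg hproj
  obtain ⟨n₀, hv⟩ := subsingleton_H2 k hdim hreg hproj H hH
  obtain ⟨a, ha⟩ : ∃ a : ℤ, a = FGA.intNum k X 2 ![L, L] (Coh.structureModule X) := ⟨_, rfl⟩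
  obtain ⟨b, hb⟩ : ∃ b : ℤ, b = FGA.intNum k X 2 ![L, ω] (Coh.structureModule X) := ⟨_, rfl⟩
  obtain ⟨c₀, hc₀⟩ : ∃ c₀ : ℤ, c₀ = Curv2.euler k X (Coh.structureModule X) := ⟨_, rfl⟩
  obtain ⟨e, he⟩ : ∃ e : ℤ, e = FGA.intNum k X 2 ![L, H] (Coh.structureModule X) := ⟨_, rfl⟩
  rw [← ha] at hLL
  rw [← he] at hLH
  have haq : (0 : ℚ) < (a : ℚ) := by exact_mod_cast hLL
  refine ⟨(a : ℚ) / 4, by positivity, n₀.natAbs + 2 * b.natAbs + 4 * c₀.natAbs + 1,
    fun m hm => ?_⟩
  have hP : PicF.IsInvertible (CohB1.tensorPow L m) := isInvertible_tensorPow hL m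
  have hPc : Coh.IsCoh (CohB1.tensorPow L m) := isCoh_of_isInvertible hP
  have e1 : FGA.intNum k X 2 ![CohB1.tensorPow L m, H] (Coh.structureModule X) = (m : ℤ) * e := by
    rw [he]
    exact intNum_pow_left k hd L H hL hH.1 m
  have e2 : FGA.intNum k X 2 ![CohB1.tensorPow L m, ω] (Coh.structureModule X) = (m : ℤ) * b := by
    rw [hb]
    exact intNum_pow_left k hd L ω hL hωinv m
  have e3 : FGA.intNum k X 2 ![CohB1.tensorPow L m, CohB1.tensorPow L m]
      (Coh.structureModule X) = (m : ℤ) * ((m : ℤ) * a) := by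
    rw [ha, intNum_pow_left k hd L _ hL hP m, intNum_comm k L _ hL hP,
      intNum_pow_left k hd L L hL hL m]
  have hmn : (n₀.natAbs : ℤ) + 2 * b.natAbs + 4 * c₀.natAbs + 1 ≤ (m : ℤ) := by exact_mod_cast hm
  have hm0 : (0 : ℤ) ≤ (m : ℤ) := Int.natCast_nonneg m
  have hn0 : n₀ ≤ n₀.natAbs := Int.le_natAbs
  have hbB : b ≤ b.natAbs := Int.le_natAbs
  have hcC : -c₀ ≤ c₀.natAbs := by
    rw [← Int.natAbs_neg]
    exact Int.le_natAbs
  have hN0 : (0 : ℤ) ≤ n₀.natAbs := Int.natCast_nonneg _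
  have hB0 : (0 : ℤ) ≤ b.natAbs := Int.natCast_nonneg _
  have hC0 : (0 : ℤ) ≤ c₀.natAbs := Int.natCast_nonneg _
  have h1e : 1 ≤ e := Int.add_one_le_iff.mpr hLH
  have h1a : 1 ≤ a := Int.add_one_le_iff.mpr hLL
  have hsub : Subsingleton (Coh.HH X (CohB1.tensorPow L m) 2) := by
    apply hv _ hP
    rw [e1]
    have t0 : 0 ≤ (m : ℤ) * (e - 1) := mul_nonneg hm0 (sub_nonneg.mpr h1e)
    nlinarith [t0]
  have hRR := hrr _ hP
  rw [e3, e2, ← hc₀] at hRR
  have hχ := eulerCharLE_two k (CohB1.tensorPow L m)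
  rw [eulerCharLE_eq_euler k 2 hd _ hPc] at hχ
  have h2z : Module.finrank k (Coh.HH X (CohB1.tensorPow L m) 2) = 0 :=
    Module.finrank_zero_of_subsingleton
  rw [h2z] at hχ
  have hh1 : (0 : ℤ) ≤ (Module.finrank k (Coh.HH X (CohB1.tensorPow L m) 1) : ℤ) :=
    Int.natCast_nonneg _
  have hh0 : (m : ℤ) * ((m : ℤ) * a) - (m : ℤ) * b + 2 * c₀ ≤
      2 * (Module.finrank k (Coh.HH X (CohB1.tensorPow L m) 0) : ℤ) := by
    push_cast at hχ
    linarith
  have t1 : 0 ≤ (m : ℤ) * (m : ℤ) * (a - 1) :=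
    mul_nonneg (mul_nonneg hm0 hm0) (sub_nonneg.mpr h1a)
  have t2 : 0 ≤ (m : ℤ) * ((b.natAbs : ℤ) - b) := mul_nonneg hm0 (sub_nonneg.mpr hbB)
  have t3 : 0 ≤ (m : ℤ) * ((m : ℤ) - 2 * b.natAbs - 4 * c₀.natAbs - 1) :=
    mul_nonneg hm0 (by linarith)
  have t4 : 0 ≤ ((m : ℤ) - 1) * (4 * (c₀.natAbs : ℤ) + 1) :=
    mul_nonneg (by linarith) (by linarith)
  have hkey : 0 < (m : ℤ) * ((m : ℤ) * a) - 2 * ((m : ℤ) * b) + 4 * c₀ := by
    nlinarith [t1, t2, t3, t4, hcC]
  have hq1 : ((m : ℚ) * ((m : ℚ) * (a : ℚ)) - (m : ℚ) * (b : ℚ) + 2 * (c₀ : ℚ)) ≤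
      2 * (Module.finrank k (Coh.HH X (CohB1.tensorPow L m) 0) : ℚ) := by
    exact_mod_cast hh0
  have hq2 : (0 : ℚ) < (m : ℚ) * ((m : ℚ) * (a : ℚ)) - 2 * ((m : ℚ) * (b : ℚ)) + 4 * (c₀ : ℚ) := by
    exact_mod_cast hkey
  nlinarith [hq1, hq2]

/-- **the Hodge index theorem** (Hartshorne V.1.9). -/
theorem hodge_index (hdim : topologicalKrullDim X = 2)
    (hreg : ∀ x : X, IsRegularLocalRing (X.presheaf.stalk x))
    (hproj : ∃ (n : ℕ) (ι : X ⟶ CohB1.ProjSpace n k), IsClosedImmersion ι ∧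
      ι ≫ CohB1.ProjSpace.toSpec n k = (X ↘ (Spec (CommRingCat.of k))))
    (H : X.Modules) (hH : CohB1.IsAmple H) (L : X.Modules) (hL : PicF.IsInvertible L)
    (h0 : FGA.intNum k X 2 ![L, H] (Coh.structureModule X) = 0) :
    FGA.intNum k X 2 ![L, L] (Coh.structureModule X) ≤ 0 := by
  by_contra hcon
  have hpos : 0 < FGA.intNum k X 2 ![L, L] (Coh.structureModule X) := not_le.mp hcon
  have hd : topologicalKrullDim X ≤ ((2 : ℕ) : WithBot ℕ∞) := le_of_eq hdim
  obtain ⟨n₁, -, hva⟩ := Groth.Agent.H5.VAmple.eventually_isRelVeryAmplePn_tensor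
    (X ↘ Spec (CommRingCat.of k)) H L hH hL
  have hH₁ : CohB1.IsAmple (CohB1.tensorMod (CohB1.tensorPow H n₁) L) :=
    Groth.Agent.H5.VAmple.isAmple_of_isRelVeryAmplePn (X ↘ Spec (CommRingCat.of k)) _
      (hva n₁ le_rfl)
  have hPn : PicF.IsInvertible (CohB1.tensorPow H n₁) := isInvertible_tensorPow hH.1 n₁
  have e1 : FGA.intNum k X 2 ![L, CohB1.tensorMod (CohB1.tensorPow H n₁) L]
      (Coh.structureModule X) = FGA.intNum k X 2 ![L, L] (Coh.structureModule X) := by
    rw [intNum_comm k L _ hL hH₁.1, intNum_tensor_left k hd _ L L hPn hL hL,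
      intNum_pow_left k hd H L hH.1 hL n₁, intNum_comm k H L hH.1 hL, h0, mul_zero, zero_add]
  obtain ⟨c, hc, m₀, hgr⟩ := exists_growth k hdim hreg hproj _ hH₁ L hL
    (by rw [e1]; exact hpos) hpos
  obtain ⟨L', hL', ⟨e⟩⟩ := Groth.Agent.H5.Glue.exists_inverse L hL
  obtain ⟨H', hH', ⟨eH⟩⟩ := Groth.Agent.H5.Glue.exists_inverse H hH.1
  have hm := hgr (m₀ + 1) (Nat.le_succ _)
  have hnt : Nontrivial (Coh.HH X (CohB1.tensorPow L (m₀ + 1)) 0) := by
    apply Module.nontrivial_of_finrank_pos (R := k)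
    have h2 : (0 : ℚ) < (Module.finrank k (Coh.HH X (CohB1.tensorPow L (m₀ + 1)) 0) : ℚ) :=
      lt_of_le_of_lt (by positivity) hm
    exact_mod_cast h2
  have h1 := intNum_ample_pos_of_sections k hdim L L' hL ⟨e⟩
    (by rw [intNum_inv_inv k hd L L' L L' hL hL e e]; exact hpos)
    ⟨m₀ + 1, Nat.succ_pos _, hnt⟩ H H' hH ⟨eH⟩
  rw [intNum_inv_inv k hd L L' H H' hL hH.1 e eH, h0] at h1
  exact lt_irrefl _ h1

end Reg

section Ineq

/-- a proper scheme over a field with an ample invertible module is projective. -/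
theorem exists_proj_of_isAmple (H : X.Modules) (hH : CohB1.IsAmple H) :
    ∃ (n : ℕ) (ι : X ⟶ CohB1.ProjSpace n k), IsClosedImmersion ι ∧
      ι ≫ CohB1.ProjSpace.toSpec n k = (X ↘ (Spec (CommRingCat.of k))) := by
  have hS : ∃ N : (Spec (CommRingCat.of k)).Modules, CohB1.IsAmple N :=
    ⟨unitMod _, isAmple_of_isAffine _ (isInvertible_unit _)⟩
  obtain ⟨n, i, hi, hif⟩ := (Groth.Agent.H5.VAmple.closedImmersion_iff_proper_ample hS
    (X ↘ (Spec (CommRingCat.of k)))).1.mpr ⟨inferInstance, H, hH⟩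
  haveI := hi
  refine ⟨n, i ≫ (PN.OB.bridge n k).inv, inferInstance, ?_⟩
  rw [Category.assoc, PN.OB.bridge_inv_toSpec]
  exact hif

variable [IsIntegral X]

/-- an ample invertible module on a proper surface has positive self-intersection. -/
theorem intNum_self_pos_of_isAmple (hdim : topologicalKrullDim X = 2) (H : X.Modules)
    (hH : CohB1.IsAmple H) : 0 < FGA.intNum k X 2 ![H, H] (Coh.structureModule X) := by
  have hd : topologicalKrullDim X ≤ ((2 : ℕ) : WithBot ℕ∞) := le_of_eq hdim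
  obtain ⟨H', hH', ⟨eH⟩⟩ := Groth.Agent.H5.Glue.exists_inverse H hH.1
  have h1 := intNum_pos_of_isAmple k X 2 hd (fun _ : Fin 2 => H) (fun _ : Fin 2 => H')
    (fun _ => hH) (fun _ => ⟨eH⟩) (unitMod X) (Groth.Agent.LD.PF.isCoh_unitMod X)
    (by rw [dim_support_unitMod, hdim]; rfl)
  have h2 : (fun _ : Fin 2 => H') = ![H', H'] := by
    funext i
    fin_cases i <;> rfl
  rw [h2] at h1
  rw [← intNum_inv_inv k hd H H' H H' hH.1 hH.1 eH eH]
  exact h1

/-- **the Hodge inequality** `(D·D)(H·H) ≤ (D·H)²` for `H` ample on a regular proper surface. -/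
theorem hodge_inequality (hdim : topologicalKrullDim X = 2)
    (hreg : ∀ x : X, IsRegularLocalRing (X.presheaf.stalk x))
    (H : X.Modules) (hH : CohB1.IsAmple H) (D : X.Modules) (hD : PicF.IsInvertible D) :
    FGA.intNum k X 2 ![D, D] (Coh.structureModule X) *
        FGA.intNum k X 2 ![H, H] (Coh.structureModule X) ≤
      FGA.intNum k X 2 ![D, H] (Coh.structureModule X) ^ 2 := by
  have hd : topologicalKrullDim X ≤ ((2 : ℕ) : WithBot ℕ∞) := le_of_eq hdim
  have hproj := exists_proj_of_isAmple k H hH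
  have hapos0 := intNum_self_pos_of_isAmple k hdim H hH
  obtain ⟨D', hD', ⟨eD⟩⟩ := Groth.Agent.H5.Glue.exists_inverse D hD
  obtain ⟨H', hH', ⟨eH⟩⟩ := Groth.Agent.H5.Glue.exists_inverse H hH.1
  obtain ⟨a, ha⟩ : ∃ a : ℤ, a = FGA.intNum k X 2 ![H, H] (Coh.structureModule X) := ⟨_, rfl⟩
  obtain ⟨b, hb⟩ : ∃ b : ℤ, b = FGA.intNum k X 2 ![D, H] (Coh.structureModule X) := ⟨_, rfl⟩
  obtain ⟨DD, hDD⟩ : ∃ DD : ℤ, DD = FGA.intNum k X 2 ![D, D] (Coh.structureModule X) := ⟨_, rfl⟩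
  have hapos : 0 < a := by rw [ha]; exact hapos0
  obtain ⟨zD, hzDdef⟩ : ∃ zD : X.Modules, zD = zpow D D' a := ⟨_, rfl⟩
  obtain ⟨zH, hzHdef⟩ : ∃ zH : X.Modules, zH = zpow H H' (-b) := ⟨_, rfl⟩
  have hzD : PicF.IsInvertible zD := by
    rw [hzDdef]
    exact isInvertible_zpow hD hD' a
  have hzH : PicF.IsInvertible zH := by
    rw [hzHdef]
    exact isInvertible_zpow hH.1 hH' (-b)
  have hzDi : ∀ C : X.Modules, PicF.IsInvertible C →
      FGA.intNum k X 2 ![zD, C] (Coh.structureModule X) =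
        a * FGA.intNum k X 2 ![D, C] (Coh.structureModule X) := by
    intro C hC
    rw [hzDdef]
    exact intNum_zpow_left k hd D D' C hD hC eD a
  have hzHi : ∀ C : X.Modules, PicF.IsInvertible C →
      FGA.intNum k X 2 ![zH, C] (Coh.structureModule X) =
        (-b) * FGA.intNum k X 2 ![H, C] (Coh.structureModule X) := by
    intro C hC
    rw [hzHdef]
    exact intNum_zpow_left k hd H H' C hH.1 hC eH (-b)
  have hE : PicF.IsInvertible (CohB1.tensorMod zD zH) := isInvertible_tensorMod hzD hzH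
  have hHD : FGA.intNum k X 2 ![H, D] (Coh.structureModule X) = b := by
    rw [intNum_comm k H D hH.1 hD, ← hb]
  have hEH : FGA.intNum k X 2 ![CohB1.tensorMod zD zH, H] (Coh.structureModule X) = 0 := by
    rw [intNum_tensor_left k hd zD zH H hzD hzH hH.1, hzDi H hH.1, hzHi H hH.1, ← ha, ← hb]
    ring
  have hDE : FGA.intNum k X 2 ![D, CohB1.tensorMod zD zH] (Coh.structureModule X) =
      a * DD - b * b := by
    rw [intNum_comm k D _ hD hE, intNum_tensor_left k hd zD zH D hzD hzH hD, hzDi D hD,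
      hzHi D hD, hHD, ← hDD]
    ring
  have hHE : FGA.intNum k X 2 ![H, CohB1.tensorMod zD zH] (Coh.structureModule X) = 0 := by
    rw [intNum_comm k H _ hH.1 hE, hEH]
  have hEE : FGA.intNum k X 2 ![CohB1.tensorMod zD zH, CohB1.tensorMod zD zH]
      (Coh.structureModule X) = a * (a * DD - b * b) := by
    rw [intNum_tensor_left k hd zD zH _ hzD hzH hE, hzDi _ hE, hzHi _ hE, hDE, hHE]
    ring
  have hle := hodge_index k hdim hreg hproj H hH _ hE hEH
  rw [hEE] at hle
  have h3 : a * DD - b * b ≤ 0 := by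
    by_contra h
    have := mul_pos hapos (not_le.mp h)
    linarith
  rw [← hDD, ← ha, ← hb]
  nlinarith

/-- the Hodge inequality on a smooth proper geometrically irreducible surface. -/
theorem hodge_inequality_of_smooth (S : Scheme.{u}) [S.Over (Spec (CommRingCat.of k))]
    [IsProper (S ↘ Spec (CommRingCat.of k))] [Smooth (S ↘ Spec (CommRingCat.of k))]
    [GeometricallyIrreducible (S ↘ Spec (CommRingCat.of k))]
    (hdim : topologicalKrullDim S = 2) (D H : S.Modules) (hD : PicF.IsInvertible D)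
    (hH : CohB1.IsAmple H) :
    FGA.intNum k S 2 ![D, D] (Coh.structureModule S) *
        FGA.intNum k S 2 ![H, H] (Coh.structureModule S) ≤
      FGA.intNum k S 2 ![D, H] (Coh.structureModule S) ^ 2 := by
  haveI : IrreducibleSpace S :=
    GeometricallyIrreducible.irreducibleSpace_of_subsingleton
      (f := S ↘ Spec (CommRingCat.of k))
  haveI : IsIntegral S :=
    Groth.Agent.H5.Curve3.isIntegral_of_smooth_connected k (S ↘ Spec (CommRingCat.of k))
  have hreg : ∀ x : S, IsRegularLocalRing (S.presheaf.stalk x) := fun x =>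
    Groth.Agent.H1.SmoothDepth.isRegularLocalRing_stalk_of_smooth k
      (S ↘ Spec (CommRingCat.of k)) x
  exact hodge_inequality k hdim hreg H hH D hD

/-- on a connected smooth proper surface, for `L` with `(L·L) > 0` and `H` ample, `(L·H) > 0`
iff all large powers of `L` have nonzero sections. -/
theorem pos_iff_eventually_sections (S : Scheme.{u}) [S.Over (Spec (CommRingCat.of k))]
    [IsProper (S ↘ Spec (CommRingCat.of k))] [Smooth (S ↘ Spec (CommRingCat.of k))]
    [ConnectedSpace S] (hdim : topologicalKrullDim S = 2)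
    (H : S.Modules) (hH : CohB1.IsAmple H) (L : S.Modules) (hL : PicF.IsInvertible L)
    (hLL : 0 < FGA.intNum k S 2 ![L, L] (Coh.structureModule S)) :
    0 < FGA.intNum k S 2 ![L, H] (Coh.structureModule S) ↔
      ∃ N : ℕ, ∀ n : ℕ, N ≤ n → Nontrivial (Coh.HH S (CohB1.tensorPow L n) 0) := by
  haveI : IsIntegral S :=
    Groth.Agent.H5.Curve3.isIntegral_of_smooth_connected k (S ↘ Spec (CommRingCat.of k))
  have hreg : ∀ x : S, IsRegularLocalRing (S.presheaf.stalk x) := fun x =>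
    Groth.Agent.H1.SmoothDepth.isRegularLocalRing_stalk_of_smooth k
      (S ↘ Spec (CommRingCat.of k)) x
  have hproj := exists_proj_of_isAmple k H hH
  have hd : topologicalKrullDim S ≤ ((2 : ℕ) : WithBot ℕ∞) := le_of_eq hdim
  constructor
  · intro hLH
    obtain ⟨c, hc, m₀, hgr⟩ := exists_growth k hdim hreg hproj H hH L hL hLH hLL
    refine ⟨m₀, fun n hn => ?_⟩
    apply Module.nontrivial_of_finrank_pos (R := k)
    have h2 : (0 : ℚ) < (Module.finrank k (Coh.HH S (CohB1.tensorPow L n) 0) : ℚ) :=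
      lt_of_le_of_lt (by positivity) (hgr n hn)
    exact_mod_cast h2
  · rintro ⟨N, hN⟩
    obtain ⟨L', hL', ⟨e⟩⟩ := Groth.Agent.H5.Glue.exists_inverse L hL
    obtain ⟨H', hH', ⟨eH⟩⟩ := Groth.Agent.H5.Glue.exists_inverse H hH.1
    have h1 := intNum_ample_pos_of_sections k hdim L L' hL ⟨e⟩
      (by rw [intNum_inv_inv k hd L L' L L' hL hL e e]; exact hLL)
      ⟨N + 1, Nat.succ_pos _, hN (N + 1) (Nat.le_succ _)⟩ H H' hH ⟨eH⟩
    rw [intNum_inv_inv k hd L L' H H' hL hH.1 e eH] at h1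
    exact h1

end Ineq

end Groth.Agent.LD.RRS.KitG
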