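import Groth.Agent.Lib.Helper1.CohPush
import Groth.Agent.Lib.Helper1.RegExch2
import Groth.Agent.Lib.Helper2.ExtReg4

/-!
# Stalks of direct images along closed immersions: explicit equivalences

* `nonempty_unit_stalk_equiv`: the stalk of the structure module is the local ring.
* `exists_stalk_push_equiv`: `(i_* G)_{i z} ≃ G_z`, semilinear over the stalk map.
* `nonempty_linearEquiv_self`: the algebra behind the invertibility of the dualizing module at a
  regular point: `Ext^c_A(A/J, A) ≅ A/J` for a regular quotient of a regular local ring.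
-/

set_option autoImplicit false
set_option linter.style.haveILetI false

universe u

open CategoryTheory Limits AlgebraicGeometry TopologicalSpace Opposite Abelian

namespace Groth.Agent.LD.RRS.SP

open Groth.Agent.LD.QC Groth.Agent.H1.SchFlat Groth.Agent.H1.CohLen

section Alg

theorem nonempty_equiv_of_surjective_isLocalizedModule
    {A B : Type u} [CommRing A] [CommRing B] [Algebra A B]
    (hφ : Function.Surjective (algebraMap A B))
    (q : Ideal B) [q.IsPrime] (p : Ideal A) [p.IsPrime] (hp : p = q.comap (algebraMap A B))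
    (Ap Bq : Type u) [CommRing Ap] [CommRing Bq] [Algebra A Ap] [Algebra B Bq]
    [IsLocalization.AtPrime Ap p] [Algebra Ap Bq]
    {M N N' : Type u} [AddCommGroup M] [Module A M] [Module B M] [IsScalarTower A B M]
    [AddCommGroup N] [Module A N] [Module Ap N] [IsScalarTower A Ap N]
    (g : M →ₗ[A] N) [IsLocalizedModule p.primeCompl g]
    [AddCommGroup N'] [Module B N'] [Module Bq N'] [Module A N'] [IsScalarTower A B N']
    [Module Ap N'] [IsScalarTower Ap Bq N'] [IsScalarTower A Ap N']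
    (g' : M →ₗ[B] N') [IsLocalizedModule q.primeCompl g'] :
    Nonempty (N ≃ₗ[Ap] N') := by
  haveI : IsLocalizedModule (Algebra.algebraMapSubmonoid B p.primeCompl) g' := by
    rw [algebraMapSubmonoid_primeCompl_of_surjective hφ q p hp]
    infer_instance
  haveI : IsLocalizedModule p.primeCompl (g'.restrictScalars A) :=
    IsLocalizedModule.restrictScalars p.primeCompl g'
  let e : N ≃ₗ[A] N' := IsLocalizedModule.linearEquiv p.primeCompl g (g'.restrictScalars A)
  exact ⟨e.extendScalarsOfIsLocalization p.primeCompl Ap⟩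

end Alg

section Sch

variable {X Z : Scheme.{u}}

/-- The stalk of the structure module is the local ring. -/
theorem nonempty_unit_stalk_equiv (z : Z) :
    Nonempty ((unitMod Z).presheaf.stalk z ≃ₗ[Z.presheaf.stalk z] Z.presheaf.stalk z) := by
  obtain ⟨V, hV, hzV, -⟩ := exists_isAffineOpen_mem_and_subset (x := z) (U := ⊤) trivial
  letI := stalkΓModule (unitMod Z) z V hzV
  haveI hloc := isLocalizedModule_germ (unitMod Z) hV z hzV
  letI : Algebra Γ(Z, V) (Z.presheaf.stalk z) := Z.presheaf.algebra_section_stalk ⟨z, hzV⟩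
  haveI := hV.isLocalization_stalk ⟨z, hzV⟩
  haveI := isScalarTower_stalk (unitMod Z) z V hzV
  set q := (hV.primeIdealOf ⟨z, hzV⟩).asIdeal with hq
  haveI : IsLocalizedModule q.primeCompl (Algebra.linearMap Γ(Z, V) (Z.presheaf.stalk z)) :=
    inferInstance
  haveI : IsLocalizedModule q.primeCompl
      ((Algebra.linearMap Γ(Z, V) (Z.presheaf.stalk z)) ∘ₗ (unitΓEquiv V).toLinearMap) :=
    IsLocalizedModule.of_linearEquiv_right _ _ _
  let e : (unitMod Z).presheaf.stalk z ≃ₗ[Γ(Z, V)] Z.presheaf.stalk z :=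
    IsLocalizedModule.linearEquiv q.primeCompl (germLinear (unitMod Z) z V hzV)
      ((Algebra.linearMap Γ(Z, V) (Z.presheaf.stalk z)) ∘ₗ (unitΓEquiv V).toLinearMap)
  exact ⟨e.extendScalarsOfIsLocalization q.primeCompl (Z.presheaf.stalk z)⟩

/-- For a closed immersion `i` and a quasi-coherent module `G`, the stalk of `i_* G` at `i z` is
the stalk of `G` at `z`, semilinearly over the stalk map. -/
theorem exists_stalk_push_equiv (i : Z ⟶ X) [IsClosedImmersion i] (G : Z.Modules)
    [G.IsQuasicoherent] (z : Z) :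
    ∃ σ : ((Scheme.Modules.pushforward i).obj G).presheaf.stalk (i z) ≃+ G.presheaf.stalk z,
      ∀ (a : X.presheaf.stalk (i z))
        (m : ((Scheme.Modules.pushforward i).obj G).presheaf.stalk (i z)),
        σ (a • m) = (i.stalkMap z).hom a • σ m := by
  obtain ⟨U, hU, hxU, -⟩ := exists_isAffineOpen_mem_and_subset (x := i z) (U := ⊤) trivial
  have hV : IsAffineOpen (i ⁻¹ᵁ U) := hU.preimage i
  have hzV : z ∈ i ⁻¹ᵁ U := hxU
  haveI : ((Scheme.Modules.pushforward i).obj G).IsQuasicoherent := qc_pushforward i G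
  -- structures on the stalk of `N`
  letI mN := stalkΓModule ((Scheme.Modules.pushforward i).obj G) (i z) U hxU
  haveI hlocN := isLocalizedModule_germ ((Scheme.Modules.pushforward i).obj G) hU (i z) hxU
  letI algA : Algebra Γ(X, U) (X.presheaf.stalk (i z)) :=
    X.presheaf.algebra_section_stalk ⟨i z, hxU⟩
  haveI := hU.isLocalization_stalk ⟨i z, hxU⟩
  haveI := isScalarTower_stalk ((Scheme.Modules.pushforward i).obj G) (i z) U hxU
  -- structures on the stalk of `G`
  letI mG := stalkΓModule G z (i ⁻¹ᵁ U) hzV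
  haveI hlocG := isLocalizedModule_germ G hV z hzV
  letI algB : Algebra Γ(Z, i ⁻¹ᵁ U) (Z.presheaf.stalk z) :=
    Z.presheaf.algebra_section_stalk ⟨z, hzV⟩
  haveI := hV.isLocalization_stalk ⟨z, hzV⟩
  haveI := isScalarTower_stalk G z (i ⁻¹ᵁ U) hzV
  -- the ring maps
  letI algAB : Algebra Γ(X, U) Γ(Z, i ⁻¹ᵁ U) := (i.app U).hom.toAlgebra
  letI algψ : Algebra (X.presheaf.stalk (i z)) (Z.presheaf.stalk z) := (i.stalkMap z).hom.toAlgebra
  have hφ : Function.Surjective (algebraMap Γ(X, U) Γ(Z, i ⁻¹ᵁ U)) := i.app_surjective U hU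
  -- the prime ideals
  have hp : (hU.primeIdealOf ⟨i z, hxU⟩).asIdeal =
      (hV.primeIdealOf ⟨z, hzV⟩).asIdeal.comap (algebraMap Γ(X, U) Γ(Z, i ⁻¹ᵁ U)) := by
    have h := primeIdealOf_comap i hV hU le_rfl z hzV
    rw [Scheme.Hom.appLE_eq_app] at h
    exact h
  -- module structures over `Γ(X, U)` and `O_{X, i z}` on the stalk of `G`
  letI mB : Module Γ(Z, i ⁻¹ᵁ U) Γ((Scheme.Modules.pushforward i).obj G, U) :=
    inferInstanceAs (Module Γ(Z, i ⁻¹ᵁ U) Γ(G, i ⁻¹ᵁ U))
  haveI : IsScalarTower Γ(X, U) Γ(Z, i ⁻¹ᵁ U) Γ((Scheme.Modules.pushforward i).obj G, U) :=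
    IsScalarTower.of_algebraMap_smul fun r m => rfl
  letI mAG : Module Γ(X, U) (G.presheaf.stalk z) :=
    Module.compHom (G.presheaf.stalk z) (algebraMap Γ(X, U) Γ(Z, i ⁻¹ᵁ U))
  haveI : IsScalarTower Γ(X, U) Γ(Z, i ⁻¹ᵁ U) (G.presheaf.stalk z) :=
    IsScalarTower.of_algebraMap_smul fun r m => rfl
  letI mApG : Module (X.presheaf.stalk (i z)) (G.presheaf.stalk z) :=
    Module.compHom (G.presheaf.stalk z) (algebraMap (X.presheaf.stalk (i z)) (Z.presheaf.stalk z))
  haveI : IsScalarTower (X.presheaf.stalk (i z)) (Z.presheaf.stalk z) (G.presheaf.stalk z) :=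
    IsScalarTower.of_algebraMap_smul fun r m => rfl
  haveI : IsScalarTower Γ(X, U) (X.presheaf.stalk (i z)) (G.presheaf.stalk z) := by
    refine ⟨fun a r n => ?_⟩
    change (i.stalkMap z).hom (a • r) • n =
      Z.presheaf.germ (i ⁻¹ᵁ U) z hzV ((i.app U).hom a) • ((i.stalkMap z).hom r • n)
    rw [Algebra.smul_def, map_mul, mul_smul]
    congr 1
    exact i.germ_stalkMap_apply U z hxU a
  let g' : Γ((Scheme.Modules.pushforward i).obj G, U) →ₗ[Γ(Z, i ⁻¹ᵁ U)] G.presheaf.stalk z :=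
    germLinear G z (i ⁻¹ᵁ U) hzV
  haveI : IsLocalizedModule (hV.primeIdealOf ⟨z, hzV⟩).asIdeal.primeCompl g' := hlocG
  obtain ⟨e'⟩ := nonempty_equiv_of_surjective_isLocalizedModule hφ
    (hV.primeIdealOf ⟨z, hzV⟩).asIdeal
    (hU.primeIdealOf ⟨i z, hxU⟩).asIdeal hp (X.presheaf.stalk (i z)) (Z.presheaf.stalk z)
    (germLinear ((Scheme.Modules.pushforward i).obj G) (i z) U hxU) g'
  exact ⟨e'.toAddEquiv, fun a m => e'.map_smul a m⟩

end Sch

section Alg2
open RingTheory.Sequence IsLocalRing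

/-- **`Ext^c_A(A/J, A) ≅ A/J` for a regular quotient of a regular local ring**, in the form needed
for the stalks of the dualizing module. -/
theorem nonempty_linearEquiv_self
    {A B : Type u} [CommRing A] [CommRing B] [IsRegularLocalRing A] [IsRegularLocalRing B]
    (φ : A →+* B) (hφ : Function.Surjective φ) (c d : ℕ)
    (hdB : ringKrullDim B = (d : WithBot ℕ∞))
    (hdA : ringKrullDim A = ((d + c : ℕ) : WithBot ℕ∞))
    (E W N : Type u) [AddCommGroup E] [Module A E] [AddCommGroup W] [Module A W]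
    [AddCommGroup N] [Module A N]
    (Mx : Type u) [AddCommGroup Mx] [Module B Mx]
    (τ : E ≃+ B) (hτ : ∀ (a : A) (e : E), τ (a • e) = φ a * τ e)
    (eW : W ≃ₗ[A] A)
    (Θ : N ≃ₗ[A] Ext (ModuleCat.of A E) (ModuleCat.of A W) c)
    (σ : N ≃+ Mx) (hσ : ∀ (a : A) (n : N), σ (a • n) = φ a • σ n) :
    Nonempty (Mx ≃ₗ[B] B) := by
  classical
  let eQ : (A ⧸ RingHom.ker φ) ≃+* B := RingHom.quotientKerEquivOfSurjective hφ
  haveI : IsRegularLocalRing (A ⧸ RingHom.ker φ) := IsRegularLocalRing.of_ringEquiv eQ.symm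
  obtain ⟨r, x, -, hreg, hspan, -⟩ :=
    Groth.Agent.H1.RegExch.exists_regular_generators' A (RingHom.ker φ)
  obtain ⟨xs, hxs⟩ : ∃ xs : List A, xs = List.ofFn x := ⟨_, rfl⟩
  have hset : {r | r ∈ List.ofFn x} = Set.range x := by
    ext y
    simp [List.mem_ofFn]
  have hI : Ideal.ofList xs = RingHom.ker φ := by
    rw [hxs]
    show Ideal.span {r | r ∈ List.ofFn x} = _
    rw [hset, hspan]
  have hreg' : IsRegular A xs := by
    rw [hxs]
    exact hreg
  have hlen : xs.length = c := by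
    have h1 := ringKrullDim_add_length_eq_ringKrullDim_of_isRegular xs hreg'
    rw [hI, ringKrullDim_eq_of_ringEquiv eQ, hdB, hdA] at h1
    have h2 : (((d + xs.length : ℕ) : ℕ∞) : WithBot ℕ∞) = (((d + c : ℕ) : ℕ∞) : WithBot ℕ∞) := by
      exact_mod_cast h1
    have h3 : ((d + xs.length : ℕ) : ℕ∞) = ((d + c : ℕ) : ℕ∞) := WithBot.coe_injective h2
    have h4 : d + xs.length = d + c := by exact_mod_cast h3
    omega
  subst hlen
  -- the cyclic module `E`
  let ℓ : A →ₗ[A] E := LinearMap.toSpanSingleton A E (τ.symm 1)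
  have hℓ : ∀ a : A, τ (ℓ a) = φ a := by
    intro a
    have h0 : ℓ a = a • τ.symm 1 := rfl
    rw [h0, hτ, AddEquiv.apply_symm_apply, mul_one]
  have hsurj : Function.Surjective ℓ := by
    intro e
    obtain ⟨a, ha⟩ := hφ (τ e)
    exact ⟨a, τ.injective ((hℓ a).trans ha)⟩
  have hker : LinearMap.ker ℓ = (Ideal.ofList xs : Submodule A A) := by
    rw [hI]
    ext a
    rw [LinearMap.mem_ker]
    show ℓ a = 0 ↔ a ∈ RingHom.ker φ
    rw [RingHom.mem_ker, ← hℓ a]
    constructor
    · intro h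
      rw [h, map_zero]
    · intro h
      exact τ.injective (h.trans (map_zero τ).symm)
  let e1 : (A ⧸ Ideal.ofList xs) ≃ₗ[A] E :=
    (Submodule.quotEquivOfEq _ _ hker.symm).trans (ℓ.quotKerEquivOfSurjective hsurj)
  obtain ⟨Φ⟩ := Groth.Agent.H2.ExtReg.nonempty_ext_equiv xs hreg'.toIsWeaklyRegular W
  let e2 := Groth.Agent.H2.ExtReg.extCongrLeft e1.symm.toModuleIso (ModuleCat.of A W) xs.length
  have hmap : Submodule.map (eW : W →ₗ[A] A) (Ideal.ofList xs • ⊤) =
      (Ideal.ofList xs : Submodule A A) := by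
    rw [Submodule.map_smul'', Submodule.map_top, LinearEquiv.range, Ideal.smul_eq_mul,
      Ideal.mul_top]
  let e3 : (W ⧸ (Ideal.ofList xs • ⊤ : Submodule A W)) ≃ₗ[A] (A ⧸ Ideal.ofList xs) :=
    Submodule.Quotient.equiv _ _ eW hmap
  let Ψ : N ≃ₗ[A] (A ⧸ Ideal.ofList xs) := Θ ≪≫ₗ e2 ≪≫ₗ Φ ≪≫ₗ e3
  -- the ring map `A/J → B`
  let ρ : (A ⧸ Ideal.ofList xs) →+* B :=
    Ideal.Quotient.lift (Ideal.ofList xs) φ (fun a ha => by rw [hI] at ha; exact ha)
  have hρ : ∀ a : A, ρ (Ideal.Quotient.mk _ a) = φ a := fun a => rfl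
  have hρinj : Function.Injective ρ := by
    rw [injective_iff_map_eq_zero]
    intro q hq
    obtain ⟨a, rfl⟩ := Ideal.Quotient.mk_surjective q
    rw [hρ] at hq
    rw [Ideal.Quotient.eq_zero_iff_mem, hI]
    exact hq
  have hρsurj : Function.Surjective ρ := by
    intro b
    obtain ⟨a, rfl⟩ := hφ b
    exact ⟨Ideal.Quotient.mk _ a, hρ a⟩
  have hρsmul : ∀ (a : A) (q : A ⧸ Ideal.ofList xs), ρ (a • q) = φ a * ρ q := by
    intro a q
    obtain ⟨a', rfl⟩ := Ideal.Quotient.mk_surjective q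
    have h0 : a • (Ideal.Quotient.mk (Ideal.ofList xs) a') =
        Ideal.Quotient.mk (Ideal.ofList xs) (a * a') := rfl
    rw [h0, hρ, hρ, map_mul]
  have hσsymm : ∀ (a : A) (m : Mx), σ.symm (φ a • m) = a • σ.symm m := by
    intro a m
    apply σ.injective
    rw [AddEquiv.apply_symm_apply, hσ, AddEquiv.apply_symm_apply]
  let F : Mx →ₗ[B] B :=
    { toFun := fun m => ρ (Ψ (σ.symm m))
      map_add' := fun m m' => by
        show ρ (Ψ (σ.symm (m + m'))) = ρ (Ψ (σ.symm m)) + ρ (Ψ (σ.symm m'))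
        rw [map_add, map_add, map_add]
      map_smul' := fun b m => by
        obtain ⟨a, rfl⟩ := hφ b
        show ρ (Ψ (σ.symm (φ a • m))) = φ a • ρ (Ψ (σ.symm m))
        have h1 : Ψ (a • σ.symm m) = a • Ψ (σ.symm m) := map_smul Ψ a _
        rw [hσsymm, h1, hρsmul, smul_eq_mul] }
  have hF : Function.Bijective F := by
    have h1 : Function.Bijective (fun m : Mx => ρ (Ψ (σ.symm m))) :=
      Function.Bijective.comp (⟨hρinj, hρsurj⟩ : Function.Bijective ρ)
        (Function.Bijective.comp Ψ.bijective σ.symm.bijective)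
    exact h1
  exact ⟨LinearEquiv.ofBijective F hF⟩

end Alg2

end Groth.Agent.LD.RRS.SP
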